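import Cfsg.Agent.H85.Push.LinFrame
import Mathlib

/-!
The linear case: the Baumann subgroup and the Sylow subgroup inside the product of the components.
-/

set_option autoImplicit false
set_option linter.style.haveILetI false
set_option linter.unusedSectionVars false

open scoped commutatorElement

namespace Cfsg.Agent.H85.Push

open Subgroup Matrix
open Cfsg.Agent.H34.Push

universe u

variable {G : Type u} [Group G] [Finite G] {p : ℕ} [Fact p.Prime] {T : Sylow p G} {M : Subgroup G}
variable {r : ℕ} {E : Fin r → Subgroup G} {F : Type} [Field F] [Fintype F] {n : ℕ}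
variable {θ : Fin r → (↥(vee p G) →* Multiplicative (Fin 2 → F))}
  {π : Fin r → (↥(⨆ i, E i) →* Matrix.SpecialLinearGroup (Fin 2) F)} {v : Fin r → Fin 2 → F}

theorem exists_moving_max (fr : Frame T E F θ π v) (hc : Ctx T M) (h : LinCase T E F n) :
    ∃ A ∈ Cfsg.maxElementaryAbelianSubgroups p G, A ≤ (T : Subgroup G) ∧ ¬ A ≤ cee p G := by
  by_contra! hall
  haveI := cee_normal (G := G) (p := p)
  have hJ : Cfsg.thompsonSubgroup p G ≤ cee p G := by
    refine sSup_le fun A hA => ?_
    obtain ⟨S, hS⟩ := (max_pGroup hA).exists_le_sylow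
    obtain ⟨g, hg⟩ := MulAction.exists_smul_eq G S T
    have hle : A.map (MulAut.conj g).toMonoidHom ≤ (T : Subgroup G) :=
      (map_mono hS).trans (le_of_eq (by rw [← hg]; rfl))
    intro a ha
    have := hall _ (H34.map_mem_max (MulAut.conj g) hA) hle ⟨a, ha, rfl⟩
    simpa [mul_assoc] using Normal.conj_mem (inferInstance : (cee p G).Normal) _ this g⁻¹
  obtain ⟨w, hw⟩ := exists_moving (fr.vne ⟨0, h.pos⟩)
  obtain ⟨x, hx, hxw⟩ := fr.πsurj ⟨0, h.pos⟩ w
  have hxC : (x : G) ∈ cee p G := by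
    have : (⨆ i, E i) ≤ cee p G := h.sup.le.trans (sup_le hJ le_rfl)
    exact this x.2
  exact hw (hxw ▸ (fr.πcee _ x hxC).symm ▸ one_mem _)

/-- `T ⊓ ⨆ E = J(T) O_p(G)`. -/
theorem sylow_le_thompson (fr : Frame T E F θ π v) (hc : Ctx T M) (h : LinCase T E F n) :
    (T : Subgroup G) ⊓ (⨆ i, E i) ≤ Cfsg.thompsonSubgroupOf p (T : Subgroup G) ⊔ Cfsg.pCore p G := by
  classical
  haveI := cee_normal (G := G) (p := p)
  have hC := h.toComps
  set J := Cfsg.thompsonSubgroupOf p (T : Subgroup G) with hJdef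
  obtain ⟨A, hA, hAT, hAC⟩ := exists_moving_max fr hc h
  have hAE := max_le_star hC hA
  have hAJ : A ≤ J := by
    rw [hJdef, H34.thompsonSubgroupOf_sylow]
    exact le_sSup ⟨hAT, hA⟩
  obtain ⟨i, hi⟩ : ∃ i, ∃ a : ↥(⨆ i, E i), (a : G) ∈ A ∧ π i a ≠ 1 := by
    by_contra! hcon
    exact hAC fun a ha => fr.mem_cee hc hC (x := ⟨a, hAE ha⟩) fun i => hcon i _ ha
  have hfst := (fr.offender hc h hA hAT).1 i hi
  -- the piece of `T C` in the component `i`
  have hTC : ∀ x : ↥(⨆ i, E i), (x : G) ∈ (T : Subgroup G) ⊔ cee p G → ∀ j, π j x ∈ stab (v j) := by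
    intro x hx j
    obtain ⟨t, ht, c, hc', htc⟩ := mem_sup_of_normal_right.1 hx
    have hcE := cee_le_star hC hc'
    have htE : t ∈ ⨆ i, E i := by
      have := mul_mem x.2 (inv_mem hcE)
      rwa [← htc, mul_inv_cancel_right] at this
    have e : x = ⟨t, htE⟩ * ⟨c, hcE⟩ := Subtype.ext htc.symm
    rw [e, map_mul, fr.πcee j ⟨c, hcE⟩ hc', mul_one]
    exact fr.img _ ht j
  have hDi : E i ⊓ ((T : Subgroup G) ⊔ cee p G) ≤ J ⊔ cee p G := by
    rintro x ⟨hxi, hx⟩
    let x' : ↥(⨆ i, E i) := ⟨x, mem_iSup_of_mem i hxi⟩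
    obtain ⟨a, ha, hai, haj⟩ := hfst _ (hTC x' hx i)
    have hmem : (a : G)⁻¹ * x ∈ cee p G := fr.inv_mul_mem hc hC (x := a) (y := x') fun j => by
      by_cases hji : j = i
      · subst hji; exact hai
      · rw [haj j hji, fr.πone j i (Ne.symm hji) x' hxi]
    rw [show x = (a : G) * ((a : G)⁻¹ * x) by group]
    exact mul_mem (mem_sup_left (hAJ ha)) (mem_sup_right hmem)
  have hDj : ∀ j, E j ⊓ ((T : Subgroup G) ⊔ cee p G) ≤ J ⊔ cee p G := by
    intro j
    obtain ⟨t, ht, hte⟩ := h.trans i j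
    rintro x ⟨hxj, hx⟩
    have h1 : t⁻¹ * x * t ∈ E i := by
      rw [← hte] at hxj
      obtain ⟨e, he, rfl⟩ := hxj
      simpa [mul_assoc] using he
    have htm : t ∈ (T : Subgroup G) ⊔ cee p G := mem_sup_left ht
    obtain ⟨a, ha, c, hc', e⟩ := mem_sup_of_normal_right.1
      (hDi ⟨h1, ((T : Subgroup G) ⊔ cee p G).mul_mem (((T : Subgroup G) ⊔ cee p G).mul_mem
        (((T : Subgroup G) ⊔ cee p G).inv_mem htm) hx) htm⟩)
    have htJ : t ∈ normalizer (J : Set G) := H34.normalizer_le_normalizer_thompson _ (le_normalizer ht)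
    rw [show x = (t * a * t⁻¹) * (t * c * t⁻¹) by
      rw [show t * a * t⁻¹ * (t * c * t⁻¹) = t * (a * c) * t⁻¹ by group, e]; group]
    exact mul_mem (mem_sup_left ((mem_normalizer_iff.1 htJ a).1 ha))
      (mem_sup_right (Normal.conj_mem inferInstance _ hc' t))
  rintro x ⟨hxT, hxE⟩
  let K := (J ⊔ cee p G).subgroupOf (⨆ i, E i)
  have hmem : (fun j => π j ⟨x, hxE⟩) ∈ K.map (Pi.monoidHom π) := pi_mem_of_mulSingle_mem _ fun j => by
    obtain ⟨e, he, hes⟩ := fr.πsurj j (π j ⟨x, hxE⟩)
    obtain ⟨y, hy, hyk⟩ := fr.onto (Pi.mulSingle j (π j ⟨x, hxE⟩)) fun k => by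
      by_cases hkj : k = j
      · subst hkj; rw [Pi.mulSingle_eq_same]; exact fr.img _ hxT _
      · rw [Pi.mulSingle_eq_of_ne hkj]; exact one_mem _
    have hye : (y : G)⁻¹ * e ∈ cee p G := fr.inv_mul_mem hc hC fun k => by
      by_cases hkj : k = j
      · subst hkj; rw [hyk, Pi.mulSingle_eq_same, hes]
      · rw [hyk, Pi.mulSingle_eq_of_ne hkj, fr.πone k j (Ne.symm hkj) e he]
    have heT : (e : G) ∈ (T : Subgroup G) ⊔ cee p G := by
      rw [show (e : G) = y * ((y : G)⁻¹ * e) by group]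
      exact mul_mem (mem_sup_left hy) (mem_sup_right hye)
    refine ⟨e, hDj j ⟨he, heT⟩, funext fun k => ?_⟩
    by_cases hkj : k = j
    · subst hkj
      show π k e = _
      rw [Pi.mulSingle_eq_same]; exact hes
    · show π k e = _
      rw [Pi.mulSingle_eq_of_ne hkj]; exact fr.πone k j (Ne.symm hkj) e he
  obtain ⟨y, hy, hyx⟩ := hmem
  have hyc : (y : G)⁻¹ * x ∈ cee p G := fr.inv_mul_mem hc hC (x := y) (y := ⟨x, hxE⟩) fun k => congrFun hyx k
  have hxJC : x ∈ J ⊔ cee p G := by
    rw [show x = (y : G) * ((y : G)⁻¹ * x) by group]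
    exact mul_mem hy (mem_sup_right hyc)
  obtain ⟨a, ha, c, hc', rfl⟩ := mem_sup_of_normal_right.1 hxJC
  have hcT : c ∈ (T : Subgroup G) := by
    have := mul_mem (inv_mem (H34.thompsonSubgroupOf_le _ ha)) hxT
    rwa [inv_mul_cancel_left] at this
  exact mul_mem (mem_sup_left ha) (mem_sup_right ((sylow_inf_cee hc).le ⟨hcT, hc'⟩))

theorem lines_le_centre (fr : Frame T E F θ π v) (hc : Ctx T M) (h : LinCase T E F n) :
    (lines θ v).map (vee p G).subtype ≤
      Cfsg.omegaOne p (Cfsg.centerThompsonOf p (T : Subgroup G)) := by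
  rintro _ ⟨w, hw, rfl⟩
  obtain ⟨A, hA, hAT, -⟩ := exists_moving_max fr hc h
  refine H34.mem_omegaOne ⟨?_, ?_⟩ (vee_pow w.2)
  · rw [H34.thompsonSubgroupOf_sylow]
    exact le_sSup (s := {B | B ≤ (T : Subgroup G) ∧ B ∈ Cfsg.maxElementaryAbelianSubgroups p G}) ⟨hAT, hA⟩
      ((fr.offender hc h hA hAT).2 w hw)
  · have hle : Cfsg.thompsonSubgroupOf p (T : Subgroup G) ≤ centralizer ({(w : G)} : Set G) := by
      rw [H34.thompsonSubgroupOf_sylow]
      refine sSup_le fun B hB x hx => mem_centralizer_singleton_iff.2 ?_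
      haveI := hB.2.1.1
      exact setLike_mul_comm (s := B) hx ((fr.offender hc h hB.2 hB.1).2 w hw)
    exact mem_centralizer_iff.2 fun x hx => mem_centralizer_singleton_iff.1 (hle hx)

theorem baumann_fixes_lines (fr : Frame T E F θ π v) (hc : Ctx T M) (h : LinCase T E F n) {b : G}
    (hb : b ∈ Cfsg.baumannSubgroupOf p (T : Subgroup G)) {w : ↥(vee p G)} (hw : w ∈ lines θ v) :
    b * (w : G) * b⁻¹ = w := by
  have h1 : (w : G) * b = b * w := mem_centralizer_iff.1 hb.2 _ (lines_le_centre fr hc h ⟨w, hw, rfl⟩)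
  rw [← h1, mul_inv_cancel_right]

/-- The Baumann subgroup lies in the product of the components. -/
theorem baumann_le_star (fr : Frame T E F θ π v) (hc : Ctx T M) (h : LinCase T E F n) :
    Cfsg.baumannSubgroupOf p (T : Subgroup G) ≤ ⨆ i, E i := by
  classical
  haveI := vee_normal (G := G) (p := p)
  haveI := cee_normal (G := G) (p := p)
  have hC := h.toComps
  haveI := star_normal hC
  intro b hb
  have hbT : b ∈ (T : Subgroup G) := hb.1
  haveI : CharP F p := charP_of_card_eq_prime_pow (p := p) (f := n) h.card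
  -- `b` normalises every component
  have hnorm : ∀ i, b ∈ normalizer (E i : Set G) := by
    intro i
    obtain ⟨j, hj⟩ := h.perm b hbT i
    by_cases hji : j = i
    · rw [hji] at hj
      exact mem_normalizer_iff_map_conj_eq.2 hj
    exfalso
    obtain ⟨w, hw⟩ := fr.θjoint (Pi.mulSingle i (Multiplicative.ofAdd (v i)))
    have hwl : w ∈ lines θ v := mem_lines.2 fun k => by
      by_cases hki : k = i
      · subst hki; exact ⟨1, by rw [hw, Pi.mulSingle_eq_same, one_smul]; rfl⟩
      · exact ⟨0, by rw [hw, Pi.mulSingle_eq_of_ne hki, zero_smul]; rfl⟩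
    have hwj : (w : G) ∈ centralizer (E j : Set G) :=
      (fr.θker j w).1 (by rw [hw, Pi.mulSingle_eq_of_ne hji])
    have hwi : (w : G) ∈ centralizer (E i : Set G) := by
      refine mem_centralizer_iff.2 fun e he => ?_
      have he' : b * e * b⁻¹ ∈ E j := by rw [← hj]; exact ⟨e, he, rfl⟩
      have h1 := mem_centralizer_iff.1 hwj _ he'
      have h2 := baumann_fixes_lines fr hc h hb hwl
      conv at h1 => lhs; rw [← h2]
      conv at h1 => rhs; rw [← h2]
      calc e * (w : G) = b⁻¹ * (b * e * b⁻¹ * (b * (w : G) * b⁻¹)) * b := by group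
        _ = b⁻¹ * (b * (w : G) * b⁻¹ * (b * e * b⁻¹)) * b := by rw [h1]
        _ = _ := by group
    have := (fr.θker i w).2 hwi
    rw [hw, Pi.mulSingle_eq_same] at this
    exact fr.vne i (Multiplicative.ofAdd.injective this)
  -- the action on each natural module
  let cb : ↥(vee p G) →* ↥(vee p G) := MonoidHom.mk'
    (fun w => ⟨b * w * b⁻¹, Normal.conj_mem inferInstance _ w.2 b⟩) fun a c => Subtype.ext (by simp [mul_assoc])
  have hker : ∀ i w, θ i w = 1 → θ i (cb w) = 1 := by
    intro i w hw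
    refine (fr.θker i _).2 (mem_centralizer_iff.2 fun e he => ?_)
    have := mem_centralizer_iff.1 ((fr.θker i w).1 hw) _ ((mem_normalizer_iff''.1 (hnorm i) e).1 he)
    show e * (b * (w : G) * b⁻¹) = b * (w : G) * b⁻¹ * e
    calc e * (b * (w : G) * b⁻¹) = b * ((b⁻¹ * e * b) * w) * b⁻¹ := by group
      _ = b * ((w : G) * (b⁻¹ * e * b)) * b⁻¹ := by rw [this]
      _ = _ := by group
  have hwell : ∀ i a c, θ i a = θ i c → θ i (cb a) = θ i (cb c) := by
    intro i a c hac
    have := hker i (a * c⁻¹) (by rw [map_mul, map_inv, hac, mul_inv_cancel])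
    rwa [map_mul, map_inv, map_mul, map_inv, mul_inv_eq_one] at this
  choose sec hsec using fun i (f : Fin 2 → F) => fr.θsurj i (Multiplicative.ofAdd f)
  let y : Fin r → (Fin 2 → F) → Fin 2 → F := fun i f => Multiplicative.toAdd (θ i (cb (sec i f)))
  have hkey : ∀ i w, y i (Multiplicative.toAdd (θ i w)) = Multiplicative.toAdd (θ i (cb w)) := fun i w =>
    congrArg Multiplicative.toAdd (hwell i _ _ (hsec i _))
  have hlift : ∀ i f, ∃ w, Multiplicative.toAdd (θ i w) = f := fun i f => ⟨sec i f, by rw [hsec]; rfl⟩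
  have hadd : ∀ i f f', y i (f + f') = y i f + y i f' := by
    intro i f f'
    obtain ⟨a, rfl⟩ := hlift i f
    obtain ⟨c, rfl⟩ := hlift i f'
    rw [← toAdd_mul, ← map_mul, hkey, hkey, hkey, map_mul, map_mul, toAdd_mul]
  have hbij : ∀ i, Function.Bijective (y i) := fun i => by
    have hs : Function.Surjective (y i) := fun f => by
      obtain ⟨w, rfl⟩ := hlift i f
      refine ⟨Multiplicative.toAdd (θ i ⟨b⁻¹ * w * b, by
        simpa using Normal.conj_mem (inferInstance : (vee p G).Normal) _ w.2 b⁻¹⟩), ?_⟩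
      rw [hkey]
      congr 2
      exact Subtype.ext (by simp [cb, mul_assoc])
    exact ⟨Finite.injective_iff_surjective.2 hs, hs⟩
  have hsl : ∀ i, ∃ A : Matrix.SpecialLinearGroup (Fin 2) F, ∀ f, y i f = (A : Matrix (Fin 2) (Fin 2) F) *ᵥ f := by
    intro i
    obtain ⟨k, hk⟩ := T.2 ⟨b, hbT⟩
    have hk' : b ^ (p ^ k) = 1 := congrArg Subtype.val hk
    refine exists_sl2_of_normalizes (y i) (hadd i) (hbij i) (fun A => ?_) (fr.vne i) (fun c => ?_) (m := k)
      fun f => ?_
    · obtain ⟨x, -, rfl⟩ := fr.πsurj i A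
      refine ⟨π i ⟨b * x * b⁻¹, Normal.conj_mem inferInstance _ x.2 b⟩, fun f => ?_⟩
      obtain ⟨w, rfl⟩ := hlift i f
      let w' : ↥(vee p G) := ⟨(x : G) * w * (x : G)⁻¹, Normal.conj_mem inferInstance _ w.2 _⟩
      rw [← fr.act i x w w' rfl, hkey, hkey]
      exact fr.act i ⟨b * x * b⁻¹, Normal.conj_mem inferInstance _ x.2 b⟩ (cb w) (cb w') (by
        simp [cb, w', mul_assoc])
    · obtain ⟨w, hw⟩ := fr.θjoint (Pi.mulSingle i (Multiplicative.ofAdd (c • v i)))
      have hwl : w ∈ lines θ v := mem_lines.2 fun j => by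
        by_cases hji : j = i
        · subst hji; exact ⟨c, by rw [hw, Pi.mulSingle_eq_same]; rfl⟩
        · exact ⟨0, by rw [hw, Pi.mulSingle_eq_of_ne hji, zero_smul]; rfl⟩
      have he : Multiplicative.toAdd (θ i w) = c • v i := by rw [hw, Pi.mulSingle_eq_same]; rfl
      rw [← he, hkey, show cb w = w from Subtype.ext (baumann_fixes_lines fr hc h hb hwl)]
    · obtain ⟨w, rfl⟩ := hlift i f
      have hit : ∀ m : ℕ, (y i)^[m] (Multiplicative.toAdd (θ i w)) =
          Multiplicative.toAdd (θ i ⟨b ^ m * w * (b ^ m)⁻¹, Normal.conj_mem inferInstance _ w.2 _⟩) := by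
        intro m
        induction m with
        | zero => simp
        | succ m ih =>
          rw [Function.iterate_succ_apply', ih, hkey]
          congr 2
          exact Subtype.ext (by simp [cb, pow_succ', mul_assoc])
      rw [hit, show (⟨b ^ p ^ k * w * (b ^ p ^ k)⁻¹, Normal.conj_mem inferInstance _ w.2 _⟩ : ↥(vee p G)) = w
        from Subtype.ext (by simp [hk'])]
  choose A hA using hsl
  obtain ⟨x, hx⟩ := fr.πjoint A
  have hst : (x : G)⁻¹ * b ∈ cee p G := by
    refine serStab_le hc (Z := vee p G ⊓ centralizer ((⨆ i, E i : Subgroup G) : Set G)) inf_le_left ?_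
    refine ⟨fun z hz => ?_, fun w hw => ?_⟩
    · have hzl : (⟨z, hz.1⟩ : ↥(vee p G)) ∈ lines θ v := mem_lines.2 fun i => ⟨0, by
        rw [(fr.θker i ⟨z, hz.1⟩).2 (centralizer_le (SetLike.coe_subset_coe.2 (le_iSup E i)) hz.2),
          zero_smul]
        rfl⟩
      have h1 : b * z * b⁻¹ = z := baumann_fixes_lines fr hc h hb hzl
      rw [show (x : G)⁻¹ * b * z * ((x : G)⁻¹ * b)⁻¹ = (x : G)⁻¹ * (b * z * b⁻¹) * x by group, h1, mul_assoc,
        ← mem_centralizer_iff.1 hz.2 x x.2, inv_mul_cancel_left]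
    · have hwm := Normal.conj_mem (inferInstance : (vee p G).Normal) _ hw ((x : G)⁻¹ * b)
      refine ⟨(vee p G).mul_mem hwm ((vee p G).inv_mem hw), mem_cent_iSup fun i =>
        (fr.θker i ⟨_, (vee p G).mul_mem hwm ((vee p G).inv_mem hw)⟩).1 ?_⟩
      rw [show (⟨_, (vee p G).mul_mem hwm ((vee p G).inv_mem hw)⟩ : ↥(vee p G)) = ⟨_, hwm⟩ * ⟨w, hw⟩⁻¹ from rfl,
        map_mul, map_inv, mul_inv_eq_one]
      refine Multiplicative.toAdd.injective ?_
      rw [fr.act i x⁻¹ (cb ⟨w, hw⟩) ⟨_, hwm⟩ (by simp [cb, mul_assoc]), ← hkey, hA, map_inv, hx,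
        mulVec_mulVec, ← Matrix.SpecialLinearGroup.coe_mul, inv_mul_cancel, Matrix.SpecialLinearGroup.coe_one,
        one_mulVec]
  rw [show b = (x : G) * ((x : G)⁻¹ * b) by group]
  exact mul_mem x.2 (cee_le_star hC hst)

theorem baumann_le_sup (fr : Frame T E F θ π v) (hc : Ctx T M) (h : LinCase T E F n) :
    Cfsg.baumannSubgroupOf p (T : Subgroup G) ≤
      Cfsg.thompsonSubgroupOf p (T : Subgroup G) ⊔ Cfsg.pCore p G :=
  (le_inf inf_le_left (baumann_le_star fr hc h)).trans (sylow_le_thompson fr hc h)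

/-- The Sylow subgroup of the product of the components. -/
theorem sylow_sup (hc : Ctx T M) (h : LinCase T E F n) :
    (T : Subgroup G) ⊓ (⨆ i, E i) = Cfsg.baumannSubgroupOf p (T : Subgroup G) ⊔ Cfsg.pCore p G := by
  obtain ⟨θ, π, v, fr⟩ := exists_frame h
  refine le_antisymm ((sylow_le_thompson fr hc h).trans
    (sup_le_sup_right (H51.thompsonSubgroupOf_le_baumann _) _)) ?_
  exact sup_le (le_inf inf_le_left (baumann_le_star fr hc h))
    (le_inf (H72.pCore_le_sylow T) (pCore_le_star h.toComps))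

/-- The elements of `T` in the coordinates come from `B(T) C`. -/
theorem Frame.onto_baumann (fr : Frame T E F θ π v) (hc : Ctx T M) (h : LinCase T E F n)
    (f : Fin r → Matrix.SpecialLinearGroup (Fin 2) F) (hf : ∀ i, f i ∈ stab (v i)) :
    ∃ x : ↥(⨆ i, E i), (x : G) ∈ Cfsg.baumannSubgroupOf p (T : Subgroup G) ∧ ∀ i, π i x = f i := by
  haveI := H72.pCore_normal (G := G) p
  obtain ⟨x, hx, hxf⟩ := fr.onto f hf
  obtain ⟨b, hb, c, hc', e⟩ := mem_sup_of_normal_right.1
    ((sylow_sup hc h).le ⟨hx, x.2⟩ : (x : G) ∈ Cfsg.baumannSubgroupOf p (T : Subgroup G) ⊔ Cfsg.pCore p G)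
  have hbE := baumann_le_star fr hc h hb
  refine ⟨⟨b, hbE⟩, hb, fun i => ?_⟩
  have e' : x = ⟨b, hbE⟩ * ⟨c, pCore_le_star h.toComps hc'⟩ := Subtype.ext e.symm
  rw [← hxf i, e', map_mul, fr.πcee i ⟨c, _⟩ (pCore_le_cee hc'), mul_one]

/-- The data for the argument on `W`. -/
theorem genData (hc : Ctx T M) (h : LinCase T E F n) : GenData T E := by
  classical
  obtain ⟨θ, π, v, fr⟩ := exists_frame h
  have hC := h.toComps
  haveI := vee_normal (G := G) (p := p)
  haveI := cee_normal (G := G) (p := p)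
  haveI : CharP F p := charP_of_card_eq_prime_pow (p := p) (f := n) h.card
  have hBE := baumann_le_star fr hc h
  choose w hw using fun i => exists_moving (fr.vne i)
  obtain ⟨g, hg⟩ := fr.πjoint w
  set B := Cfsg.baumannSubgroupOf p (T : Subgroup G)
  let X : Fin 2 → Subgroup G := ![B, B.map (MulAut.conj (g : G)).toMonoidHom]
  refine ⟨hBE, baumann_le_sup fr hc h, 2, X, ![1, (g : G)], fun j => ?_, ?_, ?_, ?_⟩
  · fin_cases j
    · intro x hx
      exact ⟨x, hx, by simp⟩
    · exact le_rfl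
  · exact le_sup_of_le_left (le_inf le_rfl (le_iSup X 0))
  · have hX1E : X 1 ≤ ⨆ i, E i := by
      rintro _ ⟨b, hb, rfl⟩
      exact mul_mem (mul_mem g.2 (hBE hb)) (inv_mem g.2)
    refine le_antisymm (sup_le (iSup_le fun j => ?_) (cee_le_star hC)) fun x hx => ?_
    · fin_cases j
      · exact hBE
      · exact hX1E
    set U := (⨆ j, X j) ⊔ cee p G
    let K := U.subgroupOf (⨆ i, E i)
    have hsingle : ∀ i (s : Matrix.SpecialLinearGroup (Fin 2) F),
        Pi.mulSingle i s ∈ K.map (Pi.monoidHom π) := by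
      intro i
      let H := (K.map (Pi.monoidHom π)).comap (MonoidHom.mulSingle (fun _ : Fin r => Matrix.SpecialLinearGroup (Fin 2) F) i)
      have hstab : stab (v i) ≤ H := by
        intro s hs
        obtain ⟨b, hb, hbs⟩ := fr.onto_baumann hc h (Pi.mulSingle i s) fun k => by
          by_cases hki : k = i
          · subst hki; rw [Pi.mulSingle_eq_same]; exact hs
          · rw [Pi.mulSingle_eq_of_ne hki]; exact one_mem _
        exact ⟨b, mem_sup_left (mem_iSup_of_mem 0 hb), funext hbs⟩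
      have hconj : ∀ s ∈ stab (v i), w i * s * (w i)⁻¹ ∈ H := by
        intro s hs
        obtain ⟨b, hb, hbs⟩ := fr.onto_baumann hc h (Pi.mulSingle i s) fun k => by
          by_cases hki : k = i
          · subst hki; rw [Pi.mulSingle_eq_same]; exact hs
          · rw [Pi.mulSingle_eq_of_ne hki]; exact one_mem _
        refine ⟨g * b * g⁻¹, mem_sup_left (mem_iSup_of_mem 1 ⟨b, hb, rfl⟩), funext fun k => ?_⟩
        show π k (g * b * g⁻¹) = (Pi.mulSingle i (w i * s * (w i)⁻¹) : Fin r → Matrix.SpecialLinearGroup (Fin 2) F) k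
        rw [map_mul, map_mul, map_inv, hg, hbs]
        by_cases hki : k = i
        · subst hki; rw [Pi.mulSingle_eq_same, Pi.mulSingle_eq_same]
        · rw [Pi.mulSingle_eq_of_ne hki, Pi.mulSingle_eq_of_ne hki, mul_one, mul_inv_cancel]
      have htop : H = ⊤ := by
        by_contra hne
        obtain ⟨s, hs1⟩ : ∃ s : ↥(stab (v i)), s ≠ 1 := by
          haveI : Nontrivial ↥(stab (v i)) := Finite.one_lt_card_iff_nontrivial.1 (by
            rw [card_stab (fr.vne i)]; exact Finite.one_lt_card)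
          exact exists_ne _
        set s' := w i * (s : Matrix.SpecialLinearGroup (Fin 2) F) * (w i)⁻¹ with hs'
        obtain ⟨c, hcv⟩ := le_lineStab (fr.vne i) hstab hne (hconj s s.2)
        have hs'v : s' ∈ stab ((w i : Matrix (Fin 2) (Fin 2) F) *ᵥ v i) := by
          rw [stab_conj]; exact ⟨s, s.2, rfl⟩
        have hs'1 : s' ≠ 1 := fun e => hs1 (Subtype.ext (conj_eq_one_iff.1 e))
        have hpow : ∀ k : ℕ, ((s' ^ k : Matrix.SpecialLinearGroup (Fin 2) F) : Matrix (Fin 2) (Fin 2) F) *ᵥ v i =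
            c ^ k • v i := by
          intro k
          induction k with
          | zero => simp
          | succ k ih => rw [pow_succ', Matrix.SpecialLinearGroup.coe_mul, ← mulVec_mulVec, ih, mulVec_smul,
              hcv, smul_smul, pow_succ]
        have hq : s' ^ Fintype.card F = 1 := by
          rw [hs', conj_pow, ← Nat.card_eq_fintype_card, ← card_stab (fr.vne i),
            show (s : Matrix.SpecialLinearGroup (Fin 2) F) ^ Nat.card ↥(stab (v i)) = 1 from
              congrArg Subtype.val (pow_card_eq_one' (x := s)), mul_one, mul_inv_cancel]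
        have hc1 : c = 1 := by
          have e := hpow (Fintype.card F)
          rw [hq, Matrix.SpecialLinearGroup.coe_one, one_mulVec, FiniteField.pow_card] at e
          exact (smul_left_injective F (fr.vne i) ((one_smul F (v i)).trans e)).symm
        have hwv : (w i : Matrix (Fin 2) (Fin 2) F) *ᵥ v i ≠ 0 := fun e =>
          fr.vne i (mulVec_injective (w i) (e.trans (mulVec_zero _).symm))
        obtain ⟨a, ha⟩ := exists_smul_of_fixed hwv hs'v hs'1 (w := v i) (by rw [hcv, hc1, one_smul])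
        have ha0 : a ≠ 0 := fun e => fr.vne i (by rw [ha, e, zero_smul])
        exact hw i ⟨a⁻¹, by conv_rhs => rw [ha, smul_smul, inv_mul_cancel₀ ha0, one_smul]⟩
      intro s
      exact htop.ge (mem_top s)
    have hmem : (fun j => π j ⟨x, hx⟩) ∈ K.map (Pi.monoidHom π) :=
      pi_mem_of_mulSingle_mem _ fun j => hsingle j _
    obtain ⟨y, hy, hyx⟩ := hmem
    have hyc : (y : G)⁻¹ * x ∈ cee p G :=
      fr.inv_mul_mem hc hC (x := y) (y := ⟨x, hx⟩) fun k => congrFun hyx k
    rw [show x = (y : G) * ((y : G)⁻¹ * x) by group]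
    exact mul_mem hy (mem_sup_right hyc)
  · -- the indices
    have hθ : Function.Surjective (Pi.monoidHom θ) := fun f => by
      obtain ⟨a, ha⟩ := fr.θjoint f
      exact ⟨a, funext ha⟩
    set Φ := Subgroup.pi Set.univ fun i => lineSub (v i)
    set Z := vee p G ⊓ centralizer ((⨆ i, E i : Subgroup G) : Set G)
    have hidx : Φ.index * Φ.index = Nat.card (Fin r → Multiplicative (Fin 2 → F)) := by
      have hc2 : Nat.card ↥Φ * Nat.card ↥Φ = Nat.card (Fin r → Multiplicative (Fin 2 → F)) := by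
        rw [card_pi, ← Finset.prod_mul_distrib, Nat.card_pi]
        refine Finset.prod_congr rfl fun i _ => ?_
        rw [card_lineSub (fr.vne i), Nat.card_congr Multiplicative.toAdd, Nat.card_fun, Nat.card_fin, sq]
      have hΦ := Φ.card_mul_index
      have : Φ.index = Nat.card ↥Φ := by
        refine Nat.eq_of_mul_eq_mul_left (Nat.card_pos (α := ↥Φ)) ?_
        rw [hΦ, hc2]
      rw [this, hc2]
    have hZ : Z.relIndex (vee p G) = Φ.index * Φ.index := by
      rw [hidx, Subgroup.relIndex, show Z.subgroupOf (vee p G) = (Pi.monoidHom θ).ker from ?_, index_ker,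
        MonoidHom.range_eq_top.2 hθ, card_top]
      ext a
      refine ⟨fun ha => funext fun i => (fr.θker i a).2
        (centralizer_le (SetLike.coe_subset_coe.2 (le_iSup E i)) ha.2), fun ha => ⟨a.2, ?_⟩⟩
      exact mem_cent_iSup fun i => (fr.θker i a).1 (congrFun ha i)
    have hB : (vee p G ⊓ centralizer (B : Set G)).relIndex (vee p G) ≤ Φ.index := by
      have hle : (lines θ v).map (vee p G).subtype ≤ vee p G ⊓ centralizer (B : Set G) := by
        rintro _ ⟨a, ha, rfl⟩
        refine ⟨a.2, mem_centralizer_iff.2 fun b hb => ?_⟩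
        have := baumann_fixes_lines fr hc h hb ha
        exact mul_inv_eq_iff_eq_mul.1 this
      refine le_trans (relIndex_le_of_le_left hle Subgroup.index_ne_zero_of_finite) (le_of_eq ?_)
      rw [Subgroup.relIndex, show ((lines θ v).map (vee p G).subtype).subgroupOf (vee p G) = lines θ v from
        comap_map_eq_self_of_injective (vee p G).subtype_injective _]
      exact index_comap_of_surjective _ hθ
    have hgV : (vee p G).map (MulAut.conj (g : G)).toMonoidHom = vee p G :=
      mem_normalizer_iff_map_conj_eq.1 ((normalizer_eq_top_iff.2 vee_normal).ge (mem_top (g : G)))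
    have hg1 : vee p G ⊓ centralizer ((B.map (MulAut.conj (g : G)).toMonoidHom : Subgroup G) : Set G) =
        (vee p G ⊓ centralizer (B : Set G)).map (MulAut.conj (g : G)).toMonoidHom := by
      rw [Subgroup.map_inf _ _ _ (MulAut.conj (g : G)).injective, H34.map_centralizer, hgV]
    rw [Fin.prod_univ_two]
    show (vee p G ⊓ centralizer (B : Set G)).relIndex (vee p G) *
      (vee p G ⊓ centralizer ((B.map (MulAut.conj (g : G)).toMonoidHom : Subgroup G) : Set G)).relIndex (vee p G) ≤
        Z.relIndex (vee p G)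
    rw [hZ, hg1]
    refine Nat.mul_le_mul hB (le_of_eq_of_le ?_ hB)
    conv_lhs => arg 2; rw [← hgV]
    exact relIndex_map_map_of_injective _ _ (MulAut.conj (g : G)).injective

end Cfsg.Agent.H85.Push
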