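import Cfsg.Agent.H85.Push.LinImages
import Cfsg.Agent.H34.Push.Basic
import Cfsg.Agent.H34.Push.Core
import Mathlib

/-!
The linear case: a rank one subgroup above the Baumann subgroup in every component.
-/

set_option autoImplicit false
set_option linter.style.haveILetI false
set_option linter.unusedSectionVars false

open scoped commutatorElement

namespace Cfsg.Agent.H85.Push

open Subgroup Matrix
open Cfsg.Agent.H34.Push

universe u

variable {G : Type u} [Group G] [Finite G] {p : ℕ} [Fact p.Prime] {T : Sylow p G} {M : Subgroup G}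
variable {r : ℕ} {E : Fin r → Subgroup G} {F : Type} [Field F] [Fintype F] {n : ℕ}

/-- `T ⊓ L = B(T)`. -/
theorem sylow_inf_ell (hc : Ctx T M) (h : LinCase T E F n) (co : Core T E) :
    (T : Subgroup G) ⊓ ell p (T : Subgroup G) = Cfsg.baumannSubgroupOf p (T : Subgroup G) := by
  haveI := H72.pCore_normal (G := G) p
  refine le_antisymm ?_ (le_inf inf_le_left le_normalClosure)
  rintro x ⟨hxT, hxL⟩
  obtain ⟨b, hb, q, hq, rfl⟩ := mem_sup_of_normal_right.1 ((sylow_sup hc h).le ⟨hxT, co.L_le hxL⟩)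
  refine mul_mem hb ((co.P_eq.ge (co.L_core.le ⟨?_, hq⟩)).2)
  have := (ell p (T : Subgroup G)).mul_mem ((ell p (T : Subgroup G)).inv_mem (le_normalClosure hb)) hxL
  rwa [inv_mul_cancel_left] at this

theorem exists_rankSub (hc : Ctx T M) (h : LinCase T E F n) (co : Core T E) (i : Fin r) :
    ∃ R : Subgroup G, RankSub T F n R ∧
      R ⊔ cee p G = E i ⊔ Cfsg.baumannSubgroupOf p (T : Subgroup G) ⊔ cee p G := by
  classical
  obtain ⟨θ, π, v, fr⟩ := exists_frame h
  have hC := h.toComps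
  haveI := cee_normal (G := G) (p := p)
  haveI hell : (ell p (T : Subgroup G)).Normal := normalClosure_normal
  haveI hpee : (pee p (T : Subgroup G)).Normal := pee_normal
  set B := Cfsg.baumannSubgroupOf p (T : Subgroup G) with hBdef
  set L := ell p (T : Subgroup G) with hLdef
  set Y := E i ⊔ B ⊔ cee p G with hYdef
  have hBL : B ≤ L := le_normalClosure
  have hYE : Y ≤ ⨆ j, E j := sup_le (sup_le (le_iSup E i) (co.B_le)) (cee_le_star hC)
  -- coordinates of the elements of `Y`
  have hYW : ∀ x : ↥(⨆ j, E j), (x : G) ∈ Y → ∀ j, j ≠ i → π j x ∈ stab (v j) := by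
    intro x hx j hji
    let W : Subgroup ↥(⨆ j, E j) := (stab (v j)).comap (π j)
    have hle : Y ≤ W.map (⨆ j, E j).subtype := by
      refine sup_le (sup_le (fun y hy => ?_) fun y hy => ?_) fun y hy => ?_
      · exact ⟨⟨y, le_iSup E i hy⟩, show π j _ ∈ stab (v j) by
          rw [fr.πone j i (Ne.symm hji) ⟨y, le_iSup E i hy⟩ hy]; exact one_mem _, rfl⟩
      · exact ⟨⟨y, co.B_le hy⟩, fr.img ⟨y, co.B_le hy⟩ hy.1 j, rfl⟩
      · exact ⟨⟨y, cee_le_star hC hy⟩, show π j _ ∈ stab (v j) by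
          rw [fr.πcee j ⟨y, cee_le_star hC hy⟩ hy]; exact one_mem _, rfl⟩
    obtain ⟨y, hy, hyx⟩ := hle hx
    rw [show x = y from Subtype.ext hyx.symm]
    exact hy
  -- a minimal supplement
  let s : Set (Subgroup G) := {R | B ≤ R ∧ R ≤ L ∧ R ⊔ cee p G = Y}
  have hs : s.Nonempty := by
    refine ⟨L ⊓ Y, le_inf hBL (le_sup_of_le_left le_sup_right), inf_le_left,
      le_antisymm (sup_le inf_le_right le_sup_right) fun y hy => ?_⟩
    obtain ⟨l, hl, c, hc', rfl⟩ := mem_sup_of_normal_right.1 (co.L_sup.ge (hYE hy))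
    refine mul_mem (mem_sup_left ⟨hl, ?_⟩) (mem_sup_right hc')
    have hcY : c ∈ Y := mem_sup_right hc'
    have := Y.mul_mem hy (Y.inv_mem hcY)
    rwa [mul_inv_cancel_right] at this
  obtain ⟨R, ⟨hBR, hRL, hRY⟩, hmin⟩ := (wellFounded_lt (α := Subgroup G)).has_min s hs
  have hRYle : R ≤ Y := hRY ▸ le_sup_left
  have hRE : R ≤ ⨆ j, E j := hRYle.trans hYE
  let φ : ↥R →* Matrix.SpecialLinearGroup (Fin 2) F := (π i).comp (inclusion hRE)
  have hφ : Function.Surjective φ := by
    intro t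
    obtain ⟨x, hx, rfl⟩ := fr.πsurj i t
    obtain ⟨a, ha, c, hc', e⟩ := mem_sup_of_normal_right.1 (hRY.ge (mem_sup_left (mem_sup_left hx) : (x : G) ∈ Y))
    refine ⟨⟨a, ha⟩, ?_⟩
    have e' : x = ⟨a, hRE ha⟩ * ⟨c, cee_le_star hC hc'⟩ := Subtype.ext e.symm
    rw [e', map_mul, fr.πcee i ⟨c, _⟩ hc', mul_one]
    rfl
  set S₀ := B.subgroupOf R with hS₀
  have hstab : stab (v i) ≤ S₀.map φ := by
    intro t ht
    obtain ⟨b, hb, hbf⟩ := fr.onto_baumann hc h (Pi.mulSingle i t) fun j => by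
      by_cases hji : j = i
      · subst hji; rw [Pi.mulSingle_eq_same]; exact ht
      · rw [Pi.mulSingle_eq_of_ne hji]; exact one_mem _
    refine ⟨⟨b, hBR hb⟩, hb, ?_⟩
    exact (hbf i).trans (Pi.mulSingle_eq_same _ _)
  set MR := (lineStab (v i)).comap φ with hMR
  have hMRne : MR ≠ ⊤ := by
    obtain ⟨w, hw⟩ := exists_moving (fr.vne i)
    obtain ⟨x, rfl⟩ := hφ w
    exact fun e => hw (e.ge (mem_top x))
  have hbelow : ∀ X : Subgroup ↥R, S₀ ≤ X → X ≠ ⊤ → X ≤ MR := by
    intro X hSX hX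
    have hne : X.map φ ≠ ⊤ := by
      intro htop
      refine hX (top_le_iff.1 fun z _ => ?_)
      have hsup : X.map R.subtype ⊔ cee p G = Y := by
        refine le_antisymm (sup_le ((map_subtype_le X).trans hRYle) le_sup_right) fun y hy => ?_
        obtain ⟨x, hx, hxy⟩ := htop.ge (mem_top (π i ⟨y, hYE hy⟩))
        let x' : ↥(⨆ j, E j) := inclusion hRE x
        obtain ⟨b, hb, hbf⟩ := fr.onto_baumann hc h (fun j => (π j x')⁻¹ * π j ⟨y, hYE hy⟩) fun j => by
          by_cases hji : j = i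
          · subst hji
            rw [show π j x' = π j ⟨y, hYE hy⟩ from hxy, inv_mul_cancel]
            exact one_mem _
          · exact mul_mem (inv_mem (hYW x' (hRYle x.2) j hji)) (hYW _ hy j hji)
        have hyc : ((x' * b : ↥(⨆ j, E j)) : G)⁻¹ * y ∈ cee p G :=
          fr.inv_mul_mem hc hC (x := x' * b) (y := ⟨y, hYE hy⟩) fun j => by
            rw [map_mul, hbf, mul_inv_cancel_left]
        rw [show y = ((x : G) * b) * (((x' * b : ↥(⨆ j, E j)) : G)⁻¹ * y) by
          show y = ((x : G) * b) * (((x : G) * b)⁻¹ * y)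
          rw [mul_inv_cancel_left]]
        exact mul_mem (mem_sup_left ((X.map R.subtype).mul_mem (mem_map_of_mem R.subtype hx)
          (show ((b : ↥(⨆ j, E j)) : G) ∈ X.map R.subtype from ⟨⟨b, hBR hb⟩, hSX hb, rfl⟩))) (mem_sup_right hyc)
      have heq : X.map R.subtype = R := by
        by_contra hlt
        exact hmin (X.map R.subtype) ⟨fun b hb => ⟨⟨b, hBR hb⟩, hSX hb, rfl⟩, (map_subtype_le X).trans hRL, hsup⟩
          (lt_of_le_of_ne (map_subtype_le X) hlt)
      obtain ⟨x, hx, hxz⟩ := heq.ge z.2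
      rwa [show z = x from Subtype.ext hxz.symm]
    exact (le_comap_map φ X).trans (comap_mono (le_lineStab (fr.vne i) (hstab.trans (map_mono hSX)) hne))
  have hS₀MR : S₀ ≤ MR := by
    intro x hx
    exact stab_le_lineStab _ (fr.img (inclusion hRE x) (show (x : G) ∈ (T : Subgroup G) from hx.1) i)
  -- the Sylow subgroup
  have hBp : IsPGroup p ↥B := T.2.to_le inf_le_left
  have hS₀p : IsPGroup p ↥S₀ := hBp.of_equiv (subgroupOfEquivOfLe hBR).symm
  let S : Sylow p ↥R :=
    { toSubgroup := S₀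
      isPGroup' := hS₀p
      is_maximal' := fun {P} hP hle => by
        have hP' : IsPGroup p ↥(P.map R.subtype) := hP.map _
        obtain ⟨T', hT'⟩ := hP'.exists_le_sylow
        obtain ⟨g, hg⟩ := MulAction.exists_smul_eq G T T'
        have hmap : (T : Subgroup G).map (MulAut.conj g).toMonoidHom = (T' : Subgroup G) := by
          rw [← hg]; rfl
        have hBP : B ≤ P.map R.subtype := fun b hb => ⟨⟨b, hBR hb⟩, hle hb, rfl⟩
        have hcard : Nat.card ↥((T' : Subgroup G) ⊓ L) = Nat.card ↥B := by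
          have hLg : L.map (MulAut.conj g).toMonoidHom = L :=
            mem_normalizer_iff_map_conj_eq.1 ((normalizer_eq_top_iff.2 hell).ge (mem_top g))
          rw [← hmap, show (T : Subgroup G).map (MulAut.conj g).toMonoidHom ⊓ L =
            ((T : Subgroup G) ⊓ L).map (MulAut.conj g).toMonoidHom by
              rw [Subgroup.map_inf _ _ _ (MulAut.conj g).injective, hLg],
            card_map_of_injective (MulAut.conj g).injective, hLdef, sylow_inf_ell hc h co]
        have heq : B = P.map R.subtype := eq_of_le_of_card_ge hBP (by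
          refine le_trans (card_le_of_le (le_inf hT' ((map_subtype_le P).trans hRL))) (le_of_eq hcard))
        refine le_antisymm (fun x hx => ?_) hle
        show (x : G) ∈ B
        rw [heq]
        exact ⟨x, hx, rfl⟩ }
  have hpeeB : pee p (T : Subgroup G) ≤ B := co.P_eq ▸ inf_le_right
  have hgen : R ⊔ (T : Subgroup G) = ⊤ := by
    by_contra hgen
    have hle := hc.le_max (le_sup_right : (T : Subgroup G) ≤ R ⊔ T) hgen
    refine hc.hM.1 (top_le_iff.1 ?_)
    have hEi : E i ≤ M := (le_sup_of_le_left le_sup_left).trans (hRY.ge.trans (sup_le (le_sup_left.trans hle) (cee_le hc)))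
    rw [← hC.top]
    refine sup_le (iSup_le fun j => ?_) hc.hTM
    obtain ⟨t, ht, hte⟩ := hC.trans i j
    rw [← hte]
    rintro _ ⟨e, he, rfl⟩
    exact M.mul_mem (M.mul_mem (hc.hTM ht) (hEi he)) (M.inv_mem (hc.hTM ht))
  refine ⟨R, ⟨hBR, hRL, ⟨S, (QuotientGroup.mk' (Subgroup.center (Matrix.SpecialLinearGroup (Fin 2) F))).comp φ |>.ker,
    rfl, ?_⟩, ?_, ?_⟩, hRY⟩
  · refine ⟨?_, ⟨MR, ⟨⟨hMRne, fun X hX => ?_⟩, hS₀MR⟩, fun X hX => ?_⟩, h.card, h.pos_n,
      MonoidHom.normal_ker _, ⟨_, ?_, rfl⟩⟩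
    · have hple : (pee p (T : Subgroup G)).subgroupOf R ≤ Cfsg.pCore p ↥R := H72.le_pCore inferInstance
        ((hBp.to_le hpeeB).of_equiv (subgroupOfEquivOfLe (hpeeB.trans hBR)).symm)
      intro x hx
      refine hple (co.P_cent (mem_centralizer_iff.2 fun z hz => ?_))
      exact congrArg Subtype.val (mem_centralizer_iff.1 hx ⟨z, hBR (hpeeB hz)⟩ (hple hz))
    · by_contra hne
      exact hX.not_ge (hbelow X (hS₀MR.trans hX.le) hne)
    · exact (hX.1.le_iff.1 (hbelow X hX.2 hX.1.1)).resolve_left (fun e => hMRne (by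
        rw [e])) |>.symm
    · exact (QuotientGroup.mk'_surjective _).comp hφ
  · intro T' hT' hinv hn
    by_contra hne
    set C' := T'.map R.subtype with hC'
    have hC'B : C' ≤ B := by
      rintro _ ⟨x, hx, rfl⟩; exact hT' hx
    have hC'ne : C' ≠ ⊥ := fun e => hne ((map_eq_bot_iff_of_injective T' R.subtype_injective).1 e)
    have hchar : (C'.subgroupOf B).Characteristic := by
      rw [characteristic_iff_le_comap]
      intro α y hy
      obtain ⟨x, hx, hxy⟩ := hy
      let e := subgroupOfEquivOfLe hBR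
      let α' : ↥S₀ ≃* ↥S₀ := e.trans (α.trans e.symm)
      have hxS : x ∈ S₀ := hT' hx
      refine ⟨(α' ⟨x, hxS⟩ : ↥R), hinv α' ⟨x, hxS⟩ hx, ?_⟩
      have hex : e ⟨x, hxS⟩ = y := Subtype.ext hxy
      show ((e (α' ⟨x, hxS⟩) : ↥B) : G) = (α y : G)
      rw [show e (α' ⟨x, hxS⟩) = α (e ⟨x, hxS⟩) from e.apply_symm_apply _, hex]
    refine hc.hchar C' hC'B hC'ne hchar (normalizer_eq_top_iff.1 (top_le_iff.1 ?_))
    have hTn : (T : Subgroup G) ≤ normalizer (C' : Set G) :=
      (H51.le_normalizer_baumann _).trans (normalizer_le_of_characteristic hC'B hchar)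
    have hRn : R ≤ normalizer (C' : Set G) := by
      intro a ha
      refine H74.mem_normalizer_of_conj_mem ?_
      rintro _ ⟨x, hx, rfl⟩
      exact ⟨⟨a, ha⟩ * x * ⟨a, ha⟩⁻¹, hn.conj_mem x hx _, rfl⟩
    exact hgen.ge.trans (sup_le hRn hTn)
  · exact hgen

end Cfsg.Agent.H85.Push
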