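import Cfsg.Agent.H85.Push.LinRep
import Mathlib

/-!
The images of the Sylow subgroup and of the elementary abelian subgroups of largest order in the
linear case.
-/

set_option autoImplicit false
set_option linter.style.haveILetI false
set_option linter.unusedSectionVars false

open scoped commutatorElement

namespace Cfsg.Agent.H85.Push

open Subgroup Matrix
open Cfsg.Agent.H34.Push

universe u

variable {G : Type u} [Group G] [Finite G] {p : ℕ} [Fact p.Prime] {T : Sylow p G} {M : Subgroup G}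
variable {r : ℕ} {E : Fin r → Subgroup G} {F : Type} [Field F] [Fintype F] {n : ℕ}

/-- The multiples of a vector. -/
def lineSub (v : Fin 2 → F) : Subgroup (Multiplicative (Fin 2 → F)) where
  carrier := {w | ∃ c : F, Multiplicative.toAdd w = c • v}
  one_mem' := ⟨0, by simp⟩
  mul_mem' := by
    rintro a b ⟨c, hc⟩ ⟨d, hd⟩
    exact ⟨c + d, by rw [toAdd_mul, hc, hd, add_smul]⟩
  inv_mem' := by
    rintro a ⟨c, hc⟩
    exact ⟨-c, by rw [toAdd_inv, hc, neg_smul]⟩

theorem card_lineSub {v : Fin 2 → F} (hv : v ≠ 0) : Nat.card ↥(lineSub v) = Nat.card F := by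
  refine (Nat.card_eq_of_bijective (fun c : F => (⟨Multiplicative.ofAdd (c • v), c, rfl⟩ : ↥(lineSub v)))
    ⟨fun a b h => ?_, fun w => ?_⟩).symm
  · exact smul_left_injective F hv (congrArg (fun z : ↥(lineSub v) => Multiplicative.toAdd (z : Multiplicative (Fin 2 → F))) h)
  · obtain ⟨c, hc⟩ := w.2
    exact ⟨c, Subtype.ext hc.symm⟩

theorem card_pi {ι : Type*} [Fintype ι] {M : ι → Type*} [∀ i, Group (M i)] (H : ∀ i, Subgroup (M i)) :
    Nat.card ↥(Subgroup.pi Set.univ H) = ∏ i, Nat.card ↥(H i) := by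
  rw [← Nat.card_pi]
  exact Nat.card_congr
    { toFun := fun f i => ⟨f.1 i, f.2 i (Set.mem_univ i)⟩
      invFun := fun f => ⟨fun i => f i, fun i _ => (f i).2⟩
      left_inv := fun f => rfl
      right_inv := fun f => rfl }

theorem mem_cent_iSup {g : G} (hg : ∀ i, g ∈ centralizer (E i : Set G)) :
    g ∈ centralizer ((⨆ i, E i : Subgroup G) : Set G) := by
  have hle : (⨆ i, E i) ≤ centralizer ({g} : Set G) := iSup_le fun i x hx =>
    mem_centralizer_singleton_iff.2 (mem_centralizer_iff.1 (hg i) x hx)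
  exact mem_centralizer_iff.2 fun x hx => mem_centralizer_singleton_iff.1 (hle hx)

/-- Coordinates with the lines fixed by the Sylow subgroup. -/
structure Frame (T : Sylow p G) {r : ℕ} (E : Fin r → Subgroup G) (F : Type) [Field F]
    (θ : Fin r → (↥(vee p G) →* Multiplicative (Fin 2 → F)))
    (π : Fin r → (↥(⨆ i, E i) →* Matrix.SpecialLinearGroup (Fin 2) F)) (v : Fin r → Fin 2 → F) : Prop
    extends Coords T E F θ π where
  vne : ∀ i, v i ≠ 0
  img : ∀ x : ↥(⨆ i, E i), (x : G) ∈ (T : Subgroup G) → ∀ i, π i x ∈ stab (v i)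
  onto : ∀ f : Fin r → Matrix.SpecialLinearGroup (Fin 2) F, (∀ i, f i ∈ stab (v i)) →
    ∃ x : ↥(⨆ i, E i), (x : G) ∈ (T : Subgroup G) ∧ ∀ i, π i x = f i

theorem exists_frame (h : LinCase T E F n) : ∃ θ π v, Frame T E F θ π v := by
  obtain ⟨θ, π, hco⟩ := exists_coords h
  haveI := star_normal h.toComps
  obtain ⟨P, hP⟩ := H44.exists_sylow_eq_subgroupOf T (⨆ i, E i)
  have hsur : Function.Surjective (Pi.monoidHom π) := fun f => by
    obtain ⟨x, hx⟩ := hco.πjoint f
    exact ⟨x, funext hx⟩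
  have hF : Fintype.card F = p ^ n := h.card
  choose v hv0 hv using fun i => exists_le_stab h.pos_n hF (P.2.map (π i))
  have hle : ((Sylow.mapSurjective hsur P : Sylow p (Fin r → Matrix.SpecialLinearGroup (Fin 2) F)) :
      Subgroup (Fin r → Matrix.SpecialLinearGroup (Fin 2) F)) ≤ Subgroup.pi Set.univ fun i => stab (v i) := by
    rintro _ ⟨x, hx, rfl⟩ i -
    exact hv i ⟨x, hx, rfl⟩
  have hpg : IsPGroup p ↥(Subgroup.pi Set.univ fun i => stab (v i)) := by
    refine fun f => ⟨n, Subtype.ext (funext fun i => ?_)⟩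
    have h1 : (⟨f.1 i, f.2 i (Set.mem_univ i)⟩ : ↥(stab (v i))) ^ (p ^ n) = 1 := by
      rw [← hF, ← Nat.card_eq_fintype_card, ← card_stab (hv0 i)]
      exact pow_card_eq_one'
    exact congrArg Subtype.val h1
  have heq := (Sylow.mapSurjective hsur P).is_maximal' hpg hle
  refine ⟨θ, π, v, hco, hv0, fun x hx i => hv i ⟨x, (hP.symm ▸ hx : x ∈ (P : Subgroup _)), rfl⟩, fun f hf => ?_⟩
  obtain ⟨x, hx, hxf⟩ := heq.le (fun i _ => hf i : f ∈ Subgroup.pi Set.univ fun i => stab (v i))
  exact ⟨x, (hP ▸ hx : x ∈ (T : Subgroup G).subgroupOf (⨆ i, E i)), fun i => congrFun hxf i⟩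

variable {θ : Fin r → (↥(vee p G) →* Multiplicative (Fin 2 → F))}
  {π : Fin r → (↥(⨆ i, E i) →* Matrix.SpecialLinearGroup (Fin 2) F)} {v : Fin r → Fin 2 → F}

theorem cee_le_star (h : Comps T E) : cee p G ≤ ⨆ i, E i :=
  (h.cent_le ⟨0, h.pos⟩).trans (le_iSup E _)

theorem pCore_le_star (h : Comps T E) : Cfsg.pCore p G ≤ ⨆ i, E i := pCore_le_cee.trans (cee_le_star h)

/-- The kernel of all coordinates. -/
theorem Coords.mem_cee (co : Coords T E F θ π) (hc : Ctx T M) (h : Comps T E) {x : ↥(⨆ i, E i)}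
    (hx : ∀ i, π i x = 1) : (x : G) ∈ cee p G := by
  haveI := vee_normal (G := G) (p := p)
  haveI := star_normal h
  refine serStab_le hc (Z := vee p G ⊓ centralizer ((⨆ i, E i : Subgroup G) : Set G)) inf_le_left ?_
  refine ⟨fun z hz => by rw [mem_centralizer_iff.1 hz.2 x x.2, mul_inv_cancel_right], fun w hw => ?_⟩
  have hw' := Normal.conj_mem (inferInstance : (vee p G).Normal) _ hw (x : G)
  refine ⟨(vee p G).mul_mem hw' ((vee p G).inv_mem hw), mem_cent_iSup fun i => (co.θker i ⟨_, (vee p G).mul_mem hw' ((vee p G).inv_mem hw)⟩).1 ?_⟩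
  have e := co.act i x ⟨w, hw⟩ ⟨_, hw'⟩ rfl
  rw [hx i, Matrix.SpecialLinearGroup.coe_one, one_mulVec] at e
  rw [show (⟨_, (vee p G).mul_mem hw' ((vee p G).inv_mem hw)⟩ : ↥(vee p G)) = ⟨_, hw'⟩ * ⟨w, hw⟩⁻¹ from rfl, map_mul, map_inv,
    Multiplicative.toAdd.injective e, mul_inv_cancel]

/-- Elements with equal coordinates agree modulo `C`. -/
theorem Coords.inv_mul_mem (co : Coords T E F θ π) (hc : Ctx T M) (h : Comps T E) {x y : ↥(⨆ i, E i)}
    (hxy : ∀ i, π i x = π i y) : (x : G)⁻¹ * y ∈ cee p G :=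
  co.mem_cee hc h (x := x⁻¹ * y) fun i => by rw [map_mul, map_inv, hxy i, inv_mul_cancel]

/-- The preimage of the fixed lines. -/
def lines (θ : Fin r → (↥(vee p G) →* Multiplicative (Fin 2 → F))) (v : Fin r → Fin 2 → F) :
    Subgroup ↥(vee p G) :=
  (Subgroup.pi Set.univ fun i => lineSub (v i)).comap (Pi.monoidHom θ)

theorem mem_lines {w : ↥(vee p G)} :
    w ∈ lines θ v ↔ ∀ i, ∃ c : F, Multiplicative.toAdd (θ i w) = c • v i :=
  ⟨fun h i => h i (Set.mem_univ i), fun h i _ => h i⟩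

theorem max_pGroup {A : Subgroup G} (hA : A ∈ Cfsg.maxElementaryAbelianSubgroups p G) : IsPGroup p ↥A :=
  fun a => ⟨1, Subtype.ext (by simpa using hA.1.2 a a.2)⟩

theorem max_le_star (h : Comps T E) {A : Subgroup G} (hA : A ∈ Cfsg.maxElementaryAbelianSubgroups p G) :
    A ≤ ⨆ i, E i := by
  rw [h.sup]
  exact (le_sSup hA).trans le_sup_left

/-- An elementary abelian subgroup of largest order in `T` covers the Sylow subgroups of the components it
moves, and contains the preimage of all lines. -/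
theorem Frame.offender (fr : Frame T E F θ π v) (hc : Ctx T M) (h : LinCase T E F n) {A : Subgroup G}
    (hA : A ∈ Cfsg.maxElementaryAbelianSubgroups p G) (hAT : A ≤ (T : Subgroup G)) :
    (∀ i, (∃ a : ↥(⨆ i, E i), (a : G) ∈ A ∧ π i a ≠ 1) → ∀ s ∈ stab (v i),
      ∃ a : ↥(⨆ i, E i), (a : G) ∈ A ∧ π i a = s ∧ ∀ j, j ≠ i → π j a = 1) ∧
    ∀ w : ↥(vee p G), w ∈ lines θ v → (w : G) ∈ A := by
  classical
  haveI := vee_normal (G := G) (p := p)
  haveI := cee_normal (G := G) (p := p)
  have hC := h.toComps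
  have hAE := max_le_star hC hA
  let S : Fin r → Prop := fun i => ∃ a : ↥(⨆ i, E i), (a : G) ∈ A ∧ π i a ≠ 1
  let P := Subgroup.pi Set.univ fun i => if S i then stab (v i) else ⊥
  let Φ := Subgroup.pi Set.univ fun i => if S i then lineSub (v i) else (⊤ : Subgroup (Multiplicative (Fin 2 → F)))
  let D := Φ.comap (Pi.monoidHom θ)
  let A' := A.subgroupOf (⨆ i, E i)
  let I := A'.map (Pi.monoidHom π)
  have hθ : Function.Surjective (Pi.monoidHom θ) := fun f => by
    obtain ⟨x, hx⟩ := fr.θjoint f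
    exact ⟨x, funext hx⟩
  have hIP : I ≤ P := by
    rintro _ ⟨a, ha, rfl⟩ i -
    by_cases hS : S i
    · simp only [hS, if_true]
      exact fr.img a (hAT ha) i
    · simp only [hS, if_false, mem_bot]
      by_contra hne
      exact hS ⟨a, ha, hne⟩
  have hAV : (A ⊓ vee p G).subgroupOf (vee p G) ≤ D := by
    intro w hw i _
    by_cases hS : S i
    · simp only [hS, if_true]
      obtain ⟨a, ha, hne⟩ := hS
      haveI := hA.1.1
      have hwA : (w : G) ∈ A := hw.1
      have hcomm : (a : G) * (w : G) = (w : G) * a := setLike_mul_comm (s := A) ha hwA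
      have e := fr.act i a w w (by rw [hcomm, mul_inv_cancel_right])
      obtain ⟨c, hc'⟩ := exists_smul_of_fixed (fr.vne i) (fr.img a (hAT ha) i) hne e.symm
      exact ⟨c, hc'⟩
    · simp only [hS, if_false]
      exact mem_top _
  have hPD : Nat.card ↥P * Nat.card ↥D = Nat.card ↥(vee p G) := by
    have h1 : Nat.card ↥P * Nat.card ↥Φ = Nat.card (Fin r → Multiplicative (Fin 2 → F)) := by
      rw [card_pi, card_pi, ← Finset.prod_mul_distrib, Nat.card_pi]
      refine Finset.prod_congr rfl fun i _ => ?_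
      have hc2 : Nat.card (Multiplicative (Fin 2 → F)) = Nat.card F * Nat.card F := by
        rw [Nat.card_congr Multiplicative.toAdd, Nat.card_fun, Nat.card_fin, sq]
      by_cases hS : S i
      · simp only [hS, if_true, card_stab (fr.vne i), card_lineSub (fr.vne i), hc2]
      · simp only [hS, if_false, card_bot, card_top, one_mul]
    have h2 : D.index = Φ.index := index_comap_of_surjective _ hθ
    have h3 := D.card_mul_index
    have h4 := Φ.card_mul_index
    rw [h2] at h3
    have h5 : 0 < Φ.index := Nat.pos_of_ne_zero Subgroup.index_ne_zero_of_finite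
    have h6 : Nat.card ↥P = Φ.index := by
      refine Nat.eq_of_mul_eq_mul_right (Nat.card_pos (α := ↥Φ)) ?_
      rw [h1, ← h4, mul_comm]
    rw [h6, mul_comm, h3]
  have hI : Nat.card ↥(A ⊓ cee p G) * Nat.card ↥I = Nat.card ↥A := by
    have hker : (Pi.monoidHom π).ker = (cee p G).subgroupOf (⨆ i, E i) := by
      ext x
      exact ⟨fun hx => fr.mem_cee hc hC fun i => congrFun hx i, fun hx => funext fun i => fr.πcee i x hx⟩
    have e1 : Nat.card ↥I = (cee p G).relIndex A := by
      rw [← relIndex_ker, hker, relIndex_subgroupOf hAE]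
    rw [e1, ← inf_relIndex_left, H32.card_mul_relIndex inf_le_left]
  have hVA : Nat.card ↥(vee p G) * Nat.card ↥(A ⊓ cee p G) ≤ Nat.card ↥A * Nat.card ↥(A ⊓ vee p G) := by
    have hcz : A ⊓ cee p G ≤ centralizer (vee p G : Set G) := inf_le_right
    have h1 := hA.2 _ (H34.isElementaryAbelian_sup (H34.isElementaryAbelian_mono hA.1 (inf_le_left : A ⊓ cee p G ≤ A))
      (H34.Star.omega_elementary (p := p) (Cfsg.pCore p G)) hcz)
    have h2 := H32.card_sup_mul_card_inf (A ⊓ cee p G) (vee p G)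
    rw [show A ⊓ cee p G ⊓ vee p G = A ⊓ vee p G by
      rw [inf_assoc, inf_eq_right.2 (vee_le_cee (G := G) (p := p))]] at h2
    calc _ = Nat.card ↥(A ⊓ cee p G ⊔ vee p G) * Nat.card ↥(A ⊓ vee p G) := by rw [h2, mul_comm]
      _ ≤ _ := Nat.mul_le_mul_right _ h1
  have hAV' : Nat.card ↥(A ⊓ vee p G) = Nat.card ↥((A ⊓ vee p G).subgroupOf (vee p G)) :=
    (Nat.card_congr (subgroupOfEquivOfLe inf_le_right).toEquiv).symm
  have hmain : Nat.card ↥P * Nat.card ↥D ≤
      Nat.card ↥I * Nat.card ↥((A ⊓ vee p G).subgroupOf (vee p G)) := by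
    refine Nat.le_of_mul_le_mul_right ?_ (Nat.card_pos (α := ↥(A ⊓ cee p G)))
    rw [hPD, ← hAV']
    calc Nat.card ↥(vee p G) * Nat.card ↥(A ⊓ cee p G) ≤ Nat.card ↥A * Nat.card ↥(A ⊓ vee p G) := hVA
      _ = _ := by rw [← hI]; ring
  have hcI := card_le_of_le hIP
  have hcD := card_le_of_le hAV
  have hIeq : I = P := eq_of_le_of_card_ge hIP (by
    refine Nat.le_of_mul_le_mul_right (hmain.trans (Nat.mul_le_mul_left _ hcD)) ?_
    exact Nat.card_pos)
  have hDeq : (A ⊓ vee p G).subgroupOf (vee p G) = D := eq_of_le_of_card_ge hAV (by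
    refine Nat.le_of_mul_le_mul_left (hmain.trans (Nat.mul_le_mul_right _ hcI)) ?_
    exact Nat.card_pos)
  refine ⟨fun i hS s hs => ?_, fun w hw => ?_⟩
  · have hmem : Pi.mulSingle i s ∈ P := fun j _ => by
      by_cases hji : j = i
      · subst hji
        simp only [Pi.mulSingle_eq_same, show S j from hS, if_true]
        exact hs
      · rw [Pi.mulSingle_eq_of_ne hji]; exact Subgroup.one_mem _
    obtain ⟨a, ha, hae⟩ := hIeq.ge hmem
    refine ⟨a, ha, (congrFun hae i).trans (Pi.mulSingle_eq_same _ _), fun j hji => ?_⟩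
    exact (congrFun hae j).trans (Pi.mulSingle_eq_of_ne hji _)
  · have hwD : w ∈ D := fun i _ => by
      by_cases hS : S i
      · simp only [hS, if_true]; exact hw i (Set.mem_univ i)
      · simp only [hS, if_false]; exact mem_top _
    exact (hDeq.ge hwD).1

end Cfsg.Agent.H85.Push
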