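import Cfsg.Agent.H34.SL2
import Cfsg.Agent.H34.Star.SemiLinear
import Mathlib

/-!
Stabilisers of vectors in `SL₂(F)` on its natural module.
-/

set_option autoImplicit false
set_option linter.style.haveILetI false

namespace Cfsg.Agent.H85.Push

open Matrix
open Cfsg.Agent.H34

variable {F : Type*} [Field F]

/-- The stabiliser of a vector. -/
def stab (v : Fin 2 → F) : Subgroup (Matrix.SpecialLinearGroup (Fin 2) F) where
  carrier := {g | (g : Matrix (Fin 2) (Fin 2) F) *ᵥ v = v}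
  one_mem' := by
    show ((1 : Matrix.SpecialLinearGroup (Fin 2) F) : Matrix (Fin 2) (Fin 2) F) *ᵥ v = v
    rw [Matrix.SpecialLinearGroup.coe_one, one_mulVec]
  mul_mem' := fun {g h} hg hh => by
    show ((g * h : Matrix.SpecialLinearGroup (Fin 2) F) : Matrix (Fin 2) (Fin 2) F) *ᵥ v = v
    rw [Matrix.SpecialLinearGroup.coe_mul, ← mulVec_mulVec, hh, hg]
  inv_mem' := fun {g} hg => by
    show ((g⁻¹ : Matrix.SpecialLinearGroup (Fin 2) F) : Matrix (Fin 2) (Fin 2) F) *ᵥ v = v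
    conv_lhs => arg 2; rw [← (hg : (g : Matrix (Fin 2) (Fin 2) F) *ᵥ v = v)]
    rw [mulVec_mulVec, ← Matrix.SpecialLinearGroup.coe_mul, inv_mul_cancel, Matrix.SpecialLinearGroup.coe_one, one_mulVec]

theorem mem_stab {v : Fin 2 → F} {g : Matrix.SpecialLinearGroup (Fin 2) F} :
    g ∈ stab v ↔ (g : Matrix (Fin 2) (Fin 2) F) *ᵥ v = v := Iff.rfl

theorem mulVec_injective (g : Matrix.SpecialLinearGroup (Fin 2) F) :
    Function.Injective ((g : Matrix (Fin 2) (Fin 2) F) *ᵥ ·) := by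
  intro a b h
  have h' : ((g⁻¹ : Matrix.SpecialLinearGroup (Fin 2) F) : Matrix (Fin 2) (Fin 2) F) *ᵥ
      ((g : Matrix (Fin 2) (Fin 2) F) *ᵥ a) = ((g⁻¹ : Matrix.SpecialLinearGroup (Fin 2) F) :
      Matrix (Fin 2) (Fin 2) F) *ᵥ ((g : Matrix (Fin 2) (Fin 2) F) *ᵥ b) := congrArg _ h
  rwa [mulVec_mulVec, mulVec_mulVec, ← Matrix.SpecialLinearGroup.coe_mul, inv_mul_cancel,
    Matrix.SpecialLinearGroup.coe_one, one_mulVec, one_mulVec] at h'

theorem exists_to (v : Fin 2 → F) (hv : v ≠ 0) :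
    ∃ g : Matrix.SpecialLinearGroup (Fin 2) F, (g : Matrix (Fin 2) (Fin 2) F) *ᵥ ![1, 0] = v := by
  by_cases h0 : v 0 = 0
  · have h1 : v 1 ≠ 0 := fun h => hv (by funext i; fin_cases i <;> simp [h0, h])
    exact ⟨⟨!![0, -(v 1)⁻¹; v 1, 0], by simp [det_fin_two, h1]⟩,
      by funext i; fin_cases i <;> simp [mulVec, dotProduct, Fin.sum_univ_two, h0]⟩
  · exact ⟨⟨!![v 0, 0; v 1, (v 0)⁻¹], by simp [det_fin_two, h0]⟩,
      by funext i; fin_cases i <;> simp [mulVec, dotProduct, Fin.sum_univ_two]⟩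

theorem stab_first (g : Matrix.SpecialLinearGroup (Fin 2) F) :
    g ∈ stab ![1, 0] ↔ ∃ x : F, g = SL2.upper x := by
  constructor
  · intro h
    have h0 := congrFun (mem_stab.1 h) 0
    have h1 := congrFun (mem_stab.1 h) 1
    simp [mulVec, dotProduct, Fin.sum_univ_two] at h0 h1
    have hd := Matrix.SpecialLinearGroup.det_coe g
    rw [det_fin_two, h0, h1] at hd
    simp at hd
    refine ⟨(g : Matrix (Fin 2) (Fin 2) F) 0 1, Subtype.ext ?_⟩
    ext i j
    fin_cases i <;> fin_cases j <;> simp [h0, h1, hd]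
  · rintro ⟨x, rfl⟩
    rw [mem_stab]
    funext i; fin_cases i <;> simp [mulVec, dotProduct, Fin.sum_univ_two]

theorem stab_conj (g : Matrix.SpecialLinearGroup (Fin 2) F) (v : Fin 2 → F) :
    stab ((g : Matrix (Fin 2) (Fin 2) F) *ᵥ v) = (stab v).map (MulAut.conj g).toMonoidHom := by
  ext x
  rw [Subgroup.mem_map_equiv, MulAut.conj_symm_apply, mem_stab, mem_stab]
  simp only [Matrix.SpecialLinearGroup.coe_mul, ← mulVec_mulVec]
  constructor
  · intro h
    rw [h, mulVec_mulVec, ← Matrix.SpecialLinearGroup.coe_mul, inv_mul_cancel, Matrix.SpecialLinearGroup.coe_one, one_mulVec]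
  · intro h
    apply mulVec_injective g⁻¹
    simp only
    rw [h, mulVec_mulVec, ← Matrix.SpecialLinearGroup.coe_mul, inv_mul_cancel,
      Matrix.SpecialLinearGroup.coe_one, one_mulVec]

theorem card_stab [Finite F] {v : Fin 2 → F} (hv : v ≠ 0) : Nat.card ↥(stab v) = Nat.card F := by
  obtain ⟨g, hg⟩ := exists_to v hv
  rw [← hg, stab_conj, Subgroup.card_map_of_injective (MulAut.conj g).injective]
  refine (Nat.card_eq_of_bijective (fun x : F => (⟨SL2.upper x, (stab_first _).2 ⟨x, rfl⟩⟩ : ↥(stab ![(1 : F), 0])))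
    ⟨fun a b h => ?_, fun s => ?_⟩).symm
  · have := congrFun (congrFun (congrArg (fun z : ↥(stab ![(1 : F), 0]) =>
      ((z : Matrix.SpecialLinearGroup (Fin 2) F) : Matrix (Fin 2) (Fin 2) F)) h) 0) 1
    simpa using this
  · obtain ⟨x, hx⟩ := (stab_first _).1 s.2
    exact ⟨x, Subtype.ext hx.symm⟩

/-- A `p`-subgroup fixes a vector. -/
theorem exists_le_stab [Fintype F] {p n : ℕ} [Fact p.Prime] (hn : 1 ≤ n) (hF : Fintype.card F = p ^ n)
    {S : Subgroup (Matrix.SpecialLinearGroup (Fin 2) F)} (hS : IsPGroup p ↥S) :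
    ∃ v : Fin 2 → F, v ≠ 0 ∧ S ≤ stab v := by
  letI : MulAction ↥S (Fin 2 → F) :=
    { smul := fun g v => ((g : Matrix.SpecialLinearGroup (Fin 2) F) : Matrix (Fin 2) (Fin 2) F) *ᵥ v
      one_smul := fun v => one_mulVec v
      mul_smul := fun g h v => (mulVec_mulVec v _ _).symm }
  have hdvd : p ∣ Nat.card (Fin 2 → F) := by
    rw [Nat.card_fun, Nat.card_fin, Nat.card_eq_fintype_card, hF, ← pow_mul]
    exact dvd_pow_self p (Nat.mul_ne_zero (by omega) two_ne_zero)
  obtain ⟨v, hv, hv0⟩ := hS.exists_fixed_point_of_prime_dvd_card_of_fixed_point (Fin 2 → F) hdvd (a := 0)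
    fun g => mulVec_zero _
  exact ⟨v, fun h => hv0 h.symm, fun g hg => hv ⟨g, hg⟩⟩

theorem isPGroup_stab [Fintype F] {p n : ℕ} [Fact p.Prime] (hF : Fintype.card F = p ^ n) {v : Fin 2 → F}
    (hv : v ≠ 0) : IsPGroup p ↥(stab v) :=
  IsPGroup.of_card (n := n) (by rw [card_stab hv, Nat.card_eq_fintype_card, hF])

/-- A nontrivial element fixing `v` fixes only the line through `v`. -/
theorem exists_smul_of_fixed [Finite F] {v w : Fin 2 → F} (hv : v ≠ 0)
    {g : Matrix.SpecialLinearGroup (Fin 2) F} (hg : g ∈ stab v) (hg1 : g ≠ 1)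
    (hw : (g : Matrix (Fin 2) (Fin 2) F) *ᵥ w = w) : ∃ c : F, w = c • v := by
  haveI := Fintype.ofFinite F
  by_contra hcon
  push Not at hcon
  refine hg1 (Subtype.ext (Matrix.ext_of_mulVec_single fun j => ?_))
  obtain ⟨a, b, hab⟩ := (Star.basis_two hv hcon).1 (Pi.single j 1)
  rw [hab, mulVec_add, mulVec_smul, mulVec_smul, hw, mem_stab.1 hg, Matrix.SpecialLinearGroup.coe_one,
    one_mulVec]

/-- The elements fixing the line through `v`. -/
def lineStab (v : Fin 2 → F) : Subgroup (Matrix.SpecialLinearGroup (Fin 2) F) where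
  carrier := {g | ∃ c : F, (g : Matrix (Fin 2) (Fin 2) F) *ᵥ v = c • v}
  one_mem' := ⟨1, by simp⟩
  mul_mem' := by
    rintro g h ⟨c, hc⟩ ⟨d, hd⟩
    exact ⟨d * c, by rw [Matrix.SpecialLinearGroup.coe_mul, ← mulVec_mulVec, hd, mulVec_smul, hc, smul_smul]⟩
  inv_mem' := by
    rintro g ⟨c, hc⟩
    have h := congrArg (((g⁻¹ : Matrix.SpecialLinearGroup (Fin 2) F) : Matrix (Fin 2) (Fin 2) F) *ᵥ ·) hc
    simp only [mulVec_mulVec, ← Matrix.SpecialLinearGroup.coe_mul, inv_mul_cancel, Matrix.SpecialLinearGroup.coe_one,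
      one_mulVec, mulVec_smul] at h
    by_cases hc0 : c = 0
    · refine ⟨0, ?_⟩
      rw [hc0, zero_smul] at h
      rw [h]; simp
    · exact ⟨c⁻¹, by conv_rhs => rw [h, smul_smul, inv_mul_cancel₀ hc0, one_smul]⟩

theorem stab_le_lineStab (v : Fin 2 → F) : stab v ≤ lineStab v :=
  fun g hg => ⟨1, by rw [one_smul]; exact hg⟩

theorem exists_moving {v : Fin 2 → F} (hv : v ≠ 0) :
    ∃ g : Matrix.SpecialLinearGroup (Fin 2) F, g ∉ lineStab v := by
  obtain ⟨h, rfl⟩ := exists_to v hv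
  let w : Matrix.SpecialLinearGroup (Fin 2) F := ⟨!![0, -1; 1, 0], by simp [det_fin_two]⟩
  refine ⟨h * w * h⁻¹, fun ⟨c, hc⟩ => ?_⟩
  rw [mulVec_mulVec, ← Matrix.SpecialLinearGroup.coe_mul, inv_mul_cancel_right, Matrix.SpecialLinearGroup.coe_mul,
    ← mulVec_mulVec, ← mulVec_smul] at hc
  have := congrFun (mulVec_injective h hc) 1
  simp [w, mulVec, dotProduct, Fin.sum_univ_two] at this

/-- A subgroup above the stabiliser of `v` that moves its line is everything. -/
theorem eq_top_of_moving {v : Fin 2 → F} (hv : v ≠ 0) {S : Subgroup (Matrix.SpecialLinearGroup (Fin 2) F)}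
    (hS : stab v ≤ S) {g : Matrix.SpecialLinearGroup (Fin 2) F} (hg : g ∈ S) (hmv : g ∉ lineStab v) : S = ⊤ := by
  obtain ⟨h, rfl⟩ := exists_to v hv
  set S' := S.comap (MulAut.conj h).toMonoidHom with hS'
  have hu : ∀ x : F, SL2.upper x ∈ S' := fun x => hS (by
    rw [stab_conj]; exact ⟨_, (stab_first _).2 ⟨x, rfl⟩, rfl⟩)
  set g' := h⁻¹ * g * h with hg'
  have hg'S : g' ∈ S' := by
    show h * (h⁻¹ * g * h) * h⁻¹ ∈ S
    rw [show h * (h⁻¹ * g * h) * h⁻¹ = g by group]
    exact hg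
  set a := (g' : Matrix (Fin 2) (Fin 2) F) 0 0
  set b := (g' : Matrix (Fin 2) (Fin 2) F) 0 1
  set c := (g' : Matrix (Fin 2) (Fin 2) F) 1 0 with hcdef
  set d := (g' : Matrix (Fin 2) (Fin 2) F) 1 1
  have hc : c ≠ 0 := by
    intro hc0
    refine hmv ⟨a, ?_⟩
    have e : (g' : Matrix (Fin 2) (Fin 2) F) *ᵥ ![1, 0] = a • ![1, 0] := by
      funext i; fin_cases i <;> simp [mulVec, dotProduct, Fin.sum_univ_two, a, ← hcdef, hc0]
    rw [mulVec_mulVec, ← Matrix.SpecialLinearGroup.coe_mul, show g * h = h * g' by rw [hg']; group,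
      Matrix.SpecialLinearGroup.coe_mul, ← mulVec_mulVec, e, mulVec_smul]
  have hdet : a * d - b * c = 1 := by
    have h := Matrix.SpecialLinearGroup.det_coe g'
    rwa [det_fin_two] at h
  have e : g' = SL2.upper ((a - 1) / c) * SL2.lower c * SL2.upper ((d - 1) / c) := by
    apply Subtype.ext
    simp only [Matrix.SpecialLinearGroup.coe_mul, SL2.coe_upper, SL2.coe_lower, mul_fin_two]
    ext i j
    fin_cases i <;> fin_cases j <;> simp [a, b, d, ← hcdef] <;> field_simp <;>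
      first | ring1 | linear_combination hdet | linear_combination -hdet
  have hl : SL2.lower c ∈ S' := by
    have := S'.mul_mem (S'.mul_mem (S'.inv_mem (hu ((a - 1) / c))) hg'S) (S'.inv_mem (hu ((d - 1) / c)))
    rwa [e, mul_assoc _ (SL2.lower c), inv_mul_cancel_left, mul_inv_cancel_right] at this
  set w := SL2.upper (-c⁻¹) * SL2.lower c * SL2.upper (-c⁻¹) with hw
  have hwS : w ∈ S' := S'.mul_mem (S'.mul_mem (hu _) hl) (hu _)
  have hlow : ∀ x : F, SL2.lower x ∈ S' := by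
    intro x
    have hm := S'.mul_mem (S'.mul_mem hwS (hu (-x / (c * c)))) (S'.inv_mem hwS)
    have e2 : w * SL2.upper (-x / (c * c)) = SL2.lower x * w := by
      have hwv : (w : Matrix (Fin 2) (Fin 2) F) = !![0, -c⁻¹; c, 0] := by
        simp only [hw, Matrix.SpecialLinearGroup.coe_mul, SL2.coe_upper, SL2.coe_lower, mul_fin_two]
        ext i j
        fin_cases i <;> fin_cases j <;> simp [hc]
      apply Subtype.ext
      simp only [Matrix.SpecialLinearGroup.coe_mul, SL2.coe_upper, SL2.coe_lower, hwv, mul_fin_two]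
      ext i j
      fin_cases i <;> fin_cases j <;> simp <;> field_simp
    rwa [e2, mul_inv_cancel_right] at hm
  refine top_unique fun y _ => ?_
  have := SL2.mem_of_root_groups hu hlow (h⁻¹ * y * h)
  change h * (h⁻¹ * y * h) * h⁻¹ ∈ S at this
  rwa [show h * (h⁻¹ * y * h) * h⁻¹ = y by group] at this

theorem le_lineStab [Finite F] {v : Fin 2 → F} (hv : v ≠ 0) {S : Subgroup (Matrix.SpecialLinearGroup (Fin 2) F)}
    (hS : stab v ≤ S) (hne : S ≠ ⊤) : S ≤ lineStab v :=
  fun g hg => by_contra fun hmv => hne (eq_top_of_moving hv hS hg hmv)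

theorem lineStab_ne_top {v : Fin 2 → F} (hv : v ≠ 0) : lineStab v ≠ ⊤ := by
  obtain ⟨g, hg⟩ := exists_moving hv
  exact fun h => hg (h.ge (Subgroup.mem_top g))

/-- An additive map of `p`-power order normalising `SL₂(F)` and fixing a line pointwise is in `SL₂(F)`. -/
theorem exists_sl2_of_normalizes [Fintype F] {p : ℕ} [Fact p.Prime] [CharP F p]
    (y : (Fin 2 → F) → Fin 2 → F) (hadd : ∀ v w, y (v + w) = y v + y w) (hbij : Function.Bijective y)
    (hnorm : ∀ A : Matrix.SpecialLinearGroup (Fin 2) F, ∃ B : Matrix.SpecialLinearGroup (Fin 2) F,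
      ∀ v, y ((A : Matrix (Fin 2) (Fin 2) F) *ᵥ v) = (B : Matrix (Fin 2) (Fin 2) F) *ᵥ y v)
    {v₀ : Fin 2 → F} (hv₀ : v₀ ≠ 0) (hline : ∀ c : F, y (c • v₀) = c • v₀)
    {m : ℕ} (hpow : ∀ v, y^[p ^ m] v = v) :
    ∃ A : Matrix.SpecialLinearGroup (Fin 2) F, ∀ v, y v = (A : Matrix (Fin 2) (Fin 2) F) *ᵥ v := by
  classical
  choose B hB using hnorm
  have hBinj : Function.Injective B := fun A A' h => by
    apply Subtype.ext
    refine Matrix.ext_of_mulVec_single fun j => hbij.1 ?_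
    rw [hB, hB, h]
  have hBsurj := Finite.injective_iff_surjective.1 hBinj
  let e := Equiv.ofBijective y hbij
  have hsymm : ∀ v, y (e.symm v) = v := fun v => e.apply_symm_apply v
  have hlin : ∀ (c : F) v, y (c • v) = c • y v := by
    intro c v
    obtain ⟨c', hc'⟩ := Star.scalar_of_commutes (fun v => y (c • e.symm v)) (fun v w => by
      have h : e.symm (v + w) = e.symm v + e.symm w := hbij.1 (by rw [hadd, hsymm, hsymm, hsymm])
      rw [h, smul_add, hadd]) (fun B' v => by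
      obtain ⟨A, rfl⟩ := hBsurj B'
      have h : e.symm ((B A : Matrix (Fin 2) (Fin 2) F) *ᵥ v) = (A : Matrix (Fin 2) (Fin 2) F) *ᵥ e.symm v :=
        hbij.1 (by rw [hB, hsymm, hsymm])
      rw [h, ← mulVec_smul, hB])
    have h0 : e.symm v₀ = v₀ := hbij.1 (by rw [hsymm]; simpa using (hline 1).symm)
    have hcc : c' = c := by
      have := hc' v₀
      rw [h0, hline] at this
      exact (smul_left_injective F hv₀ this).symm
    have := hc' (y v)
    rw [hcc, show e.symm (y v) = v from e.symm_apply_apply v] at this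
    exact this
  let L : (Fin 2 → F) →ₗ[F] (Fin 2 → F) := { toFun := y, map_add' := hadd, map_smul' := hlin }
  have hpw : ∀ n : ℕ, ∀ v, (L ^ n) v = y^[n] v := by
    intro n
    induction n with
    | zero => intro v; rfl
    | succ n ih => intro v; rw [pow_succ', Module.End.mul_apply, ih, Function.iterate_succ_apply']; rfl
  have h1 : L ^ (p ^ m) = 1 := LinearMap.ext fun v => by rw [hpw, hpow]; rfl
  have h2 : (LinearMap.det L) ^ (p ^ m) = 1 := by rw [← map_pow, h1, map_one]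
  have h3 : (LinearMap.det L - 1) ^ (p ^ m) = 0 := by rw [sub_pow_char_pow, h2, one_pow, sub_self]
  have hdet : (LinearMap.toMatrix' L).det = 1 := by
    rw [LinearMap.det_toMatrix']
    exact sub_eq_zero.1 (eq_zero_of_pow_eq_zero h3)
  exact ⟨⟨_, hdet⟩, fun v => (LinearMap.toMatrix'_mulVec L v).symm⟩

end Cfsg.Agent.H85.Push
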