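import Cfsg.Agent.H34.Push.Defs
import Cfsg.Agent.H34.Star.Faithful
import Cfsg.Agent.H85.Push.SL2Facts
import Mathlib

/-!
Coordinates for the linear case: the action of the product of the components on
`V / C_V(⨆ E)` as a product of natural modules, and the stabiliser of the series `V > C_V(⨆ E) > 1`.
-/

set_option autoImplicit false
set_option linter.style.haveILetI false
set_option linter.unusedSectionVars false

open scoped commutatorElement

namespace Cfsg.Agent.H85.Push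

open Subgroup Matrix
open Cfsg.Agent.H34.Push

universe u

variable {G : Type u} [Group G] [Finite G] {p : ℕ} [Fact p.Prime] {T : Sylow p G} {M : Subgroup G}

/-- `V` is normal. -/
theorem vee_normal : (vee p G).Normal := H34.Star.omega_core_normal

/-- `C` is normal. -/
theorem cee_normal : (cee p G).Normal := by
  haveI := vee_normal (G := G) (p := p)
  exact inferInstance

theorem vee_comm {a b : G} (ha : a ∈ vee p G) (hb : b ∈ vee p G) : a * b = b * a := by
  haveI := (H34.Star.omega_elementary (G := G) (p := p) (Cfsg.pCore p G)).1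
  exact setLike_mul_comm ha hb

theorem vee_pow {a : G} (ha : a ∈ vee p G) : a ^ p = 1 :=
  (H34.Star.omega_elementary (G := G) (p := p) (Cfsg.pCore p G)).2 a ha

theorem vee_le_cee : vee p G ≤ cee p G :=
  fun _ ha => mem_centralizer_iff.2 fun _ hb => vee_comm hb ha

theorem pCore_le_cee : Cfsg.pCore p G ≤ cee p G :=
  fun _ ha => mem_centralizer_iff.2 fun _ hb =>
    ((mem_centralizer_iff.1 ((H34.Star.omega_le _) hb).2 _ ha)).symm

/-- `C` lies in the maximal subgroup over `T`. -/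
theorem cee_le (hc : Ctx T M) : cee p G ≤ M := by
  have hne : centralizer (Cfsg.omegaOneCenter p (T : Subgroup G) : Set G) ≠ ⊤ := by
    intro e
    refine hc.hz ⟨fun z hz g => ?_⟩
    rw [← mem_centralizer_iff.1 (e.ge (mem_top g)) z hz, mul_inv_cancel_right]
    exact hz
  refine (centralizer_le (SetLike.coe_subset_coe.2 (H34.Star.omega_sylow_le (T := T) hc.charp))).trans ?_
  exact H74.pmin_le hc.pmin hc.hM hc.hTM
    (fun t ht => mem_centralizer_iff.2 fun z hz =>
      ((mem_centralizer_iff.1 ((H34.Star.omega_le _) hz).2 t ht)).symm) hne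

theorem sylow_inf_cee (hc : Ctx T M) : (T : Subgroup G) ⊓ cee p G = Cfsg.pCore p G := by
  haveI := cee_normal (G := G) (p := p)
  exact le_antisymm (H34.Star.inf_le_pCore hc.pmin hc.hM hc.hTM (cee_le hc))
    (le_inf (H72.pCore_le_sylow T) pCore_le_cee)

/-- The stabiliser of the series `V > Z > 1`. -/
def serStab (Z : Subgroup G) [Z.Normal] : Subgroup G where
  carrier := {g | (∀ z ∈ Z, g * z * g⁻¹ = z) ∧ ∀ v ∈ vee p G, g * v * g⁻¹ * v⁻¹ ∈ Z}
  one_mem' := ⟨fun z _ => by simp, fun v _ => by simp⟩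
  mul_mem' := by
    rintro g h ⟨hg1, hg2⟩ ⟨hh1, hh2⟩
    refine ⟨fun z hz => ?_, fun v hv => ?_⟩
    · rw [show g * h * z * (g * h)⁻¹ = g * (h * z * h⁻¹) * g⁻¹ by group, hh1 z hz, hg1 z hz]
    · rw [show g * h * v * (g * h)⁻¹ * v⁻¹ = g * (h * v * h⁻¹ * v⁻¹) * g⁻¹ * (g * v * g⁻¹ * v⁻¹) by group]
      exact mul_mem (Normal.conj_mem inferInstance _ (hh2 v hv) g) (hg2 v hv)
  inv_mem' := by
    rintro g ⟨hg1, hg2⟩
    refine ⟨fun z hz => ?_, fun v hv => ?_⟩
    · conv_lhs => rw [← hg1 z hz]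
      group
    · have h := Normal.conj_mem (inferInstance : Z.Normal) _ (inv_mem (hg2 v hv)) g⁻¹
      rwa [show g⁻¹ * (g * v * g⁻¹ * v⁻¹)⁻¹ * g⁻¹⁻¹ = g⁻¹ * v * g⁻¹⁻¹ * v⁻¹ by group] at h

/-- The stabiliser of a series `V > Z > 1` is `C`. -/
theorem serStab_le (hc : Ctx T M) {Z : Subgroup G} [Z.Normal] (hZV : Z ≤ vee p G) :
    serStab (p := p) Z ≤ cee p G := by
  haveI := vee_normal (G := G) (p := p)
  haveI := cee_normal (G := G) (p := p)
  set K := serStab (p := p) Z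
  haveI : K.Normal := ⟨fun g ⟨hg1, hg2⟩ x => by
    refine ⟨fun z hz => ?_, fun v hv => ?_⟩
    · have h := hg1 _ (Normal.conj_mem (inferInstance : Z.Normal) _ hz x⁻¹)
      rw [show x * g * x⁻¹ * z * (x * g * x⁻¹)⁻¹ = x * (g * (x⁻¹ * z * x⁻¹⁻¹) * g⁻¹) * x⁻¹ by group, h]
      group
    · have h := hg2 _ (Normal.conj_mem (inferInstance : (vee p G).Normal) _ hv x⁻¹)
      have h' := Normal.conj_mem (inferInstance : Z.Normal) _ h x
      rwa [show x * (g * (x⁻¹ * v * x⁻¹⁻¹) * g⁻¹ * (x⁻¹ * v * x⁻¹⁻¹)⁻¹) * x⁻¹ =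
        x * g * x⁻¹ * v * (x * g * x⁻¹)⁻¹ * v⁻¹ by group] at h'⟩
  let f := QuotientGroup.mk' (cee p G)
  have hpow : ∀ g ∈ K, g ^ p ∈ cee p G := by
    intro g hg
    refine mem_centralizer_iff.2 fun v hv => ?_
    have key : ∀ k : ℕ, g ^ k * v * (g ^ k)⁻¹ = (g * v * g⁻¹ * v⁻¹) ^ k * v := by
      intro k
      induction k with
      | zero => simp
      | succ k ih =>
        rw [pow_succ', show g * g ^ k * v * (g * g ^ k)⁻¹ = g * (g ^ k * v * (g ^ k)⁻¹) * g⁻¹ by group,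
          ih, show g * ((g * v * g⁻¹ * v⁻¹) ^ k * v) * g⁻¹ =
            (g * (g * v * g⁻¹ * v⁻¹) ^ k * g⁻¹) * (g * v * g⁻¹ * v⁻¹) * v by group,
          hg.1 _ (pow_mem (hg.2 v hv) k), pow_succ]
    have := key p
    rw [vee_pow (hZV (hg.2 v hv)), one_mul] at this
    conv_lhs => rw [← this]
    group
  have hKp : IsPGroup p ↥(K.map f) := by
    rintro ⟨_, g, hg, rfl⟩
    exact ⟨1, Subtype.ext (by simpa [f, ← QuotientGroup.mk_pow] using hpow g hg)⟩
  haveI : (K.map f).Normal := Normal.map inferInstance _ (QuotientGroup.mk'_surjective _)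
  have hle : K ≤ (T : Subgroup G) ⊔ cee p G := by
    have h := hKp.le_sylow_of_normal (Sylow.mapSurjective (QuotientGroup.mk'_surjective (cee p G)) T)
    intro g hg
    have h2 : g ∈ ((T : Subgroup G).map f).comap f := h ⟨g, hg, rfl⟩
    rwa [comap_map_eq, QuotientGroup.ker_mk'] at h2
  have hKM : K ≤ M := hle.trans (sup_le hc.hTM (cee_le hc))
  intro g hg
  obtain ⟨t, ht, c, hc', rfl⟩ := mem_sup_of_normal_right.1 (hle hg)
  have hcK : c ∈ K := by
    refine ⟨fun z hz => ?_, fun v hv => ?_⟩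
    · rw [← mem_centralizer_iff.1 hc' z (hZV hz), mul_inv_cancel_right]
    · rw [← mem_centralizer_iff.1 hc' v hv, mul_inv_cancel_right, mul_inv_cancel]; exact one_mem _
  have htK : t ∈ K := by
    have := K.mul_mem hg (K.inv_mem hcK)
    rwa [mul_inv_cancel_right] at this
  exact mul_mem (pCore_le_cee (H34.Star.inf_le_pCore hc.pmin hc.hM hc.hTM hKM ⟨ht, htK⟩)) hc'

variable {r : ℕ} {E : Fin r → Subgroup G} {F : Type} [Field F] [Fintype F] {n : ℕ}

theorem star_normal (h : Comps T E) : (⨆ i, E i).Normal := by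
  haveI := cee_normal (G := G) (p := p)
  haveI : (Cfsg.thompsonSubgroup p G).Normal :=
    haveI := H34.thompsonSubgroup_characteristic (p := p) (G := G); inferInstance
  rw [h.sup]
  exact inferInstance

theorem comp_normalized (h : Comps T E) (i : Fin r) : (⨆ j, E j) ≤ normalizer (E i : Set G) := by
  refine iSup_le fun j => ?_
  by_cases hji : j = i
  · rw [hji]; exact le_normalizer
  intro x hx
  refine H74.mem_normalizer_of_conj_mem fun e he => ?_
  rw [show x * e * x⁻¹ = ⁅x, e⁆ * e by simp [commutatorElement_def, mul_assoc]]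
  exact mul_mem (h.cent_le i (h.comm j i hji (commutator_mem_commutator hx he))) he

theorem comm_le_vee (i : Fin r) : ⁅vee p G, E i⁆ ≤ vee p G := by
  haveI := vee_normal (G := G) (p := p)
  exact commutator_le_left _ _

theorem cross_cent (h : Comps T E) {i j : Fin r} (hji : j ≠ i) :
    ⁅vee p G, E j⁆ ≤ centralizer (E i : Set G) :=
  commutator_eq_bot_iff_le_centralizer.1 (h.cross j i hji)

/-- Every element of `V` is, modulo `C_V(E_i)`, in `[V, E_i]`. -/
theorem exists_part (h : Comps T E) (i : Fin r) {v : G} (hv : v ∈ vee p G) :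
    ∃ u ∈ ⁅vee p G, E i⁆, u⁻¹ * v ∈ centralizer (E i : Set G) := by
  let S : Subgroup G :=
    { carrier := {v | v ∈ vee p G ∧ ∃ u ∈ ⁅vee p G, E i⁆, u⁻¹ * v ∈ centralizer (E i : Set G)}
      one_mem' := ⟨one_mem _, 1, one_mem _, by simp⟩
      mul_mem' := by
        rintro a b ⟨ha, u, hu, hua⟩ ⟨hb, w, hw, hwb⟩
        refine ⟨mul_mem ha hb, u * w, mul_mem hu hw, ?_⟩
        have e : (u * w)⁻¹ * (a * b) = (u⁻¹ * a) * (w⁻¹ * b) := by
          have h1 : w⁻¹ * (u⁻¹ * a) = u⁻¹ * a * w⁻¹ :=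
            vee_comm (inv_mem (comm_le_vee i hw)) (mul_mem (inv_mem (comm_le_vee i hu)) ha)
          calc (u * w)⁻¹ * (a * b) = (w⁻¹ * (u⁻¹ * a)) * b := by group
            _ = _ := by rw [h1]; group
        rw [e]
        exact mul_mem hua hwb
      inv_mem' := by
        rintro a ⟨ha, u, hu, hua⟩
        refine ⟨inv_mem ha, u⁻¹, inv_mem hu, ?_⟩
        have e : u⁻¹⁻¹ * a⁻¹ = (u⁻¹ * a)⁻¹ := by
          rw [_root_.mul_inv_rev, inv_inv]
          exact vee_comm (comm_le_vee i hu) (inv_mem ha)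
        rw [e]
        exact inv_mem hua }
  have hle : vee p G ≤ S := by
    conv_lhs => rw [← h.dec]
    refine sup_le (fun z hz => ⟨hz.1, 1, one_mem _, ?_⟩) (iSup_le fun j x hx => ?_)
    · simpa using (centralizer_le (SetLike.coe_subset_coe.2 (le_iSup E i))) hz.2
    · by_cases hji : j = i
      · subst hji
        exact ⟨comm_le_vee j hx, x, hx, by simp⟩
      · exact ⟨comm_le_vee j hx, 1, one_mem _, by simpa using cross_cent h hji hx⟩
  exact (hle hv).2

/-- The coordinates. -/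
structure Coords (T : Sylow p G) {r : ℕ} (E : Fin r → Subgroup G) (F : Type) [Field F]
    (θ : Fin r → (↥(vee p G) →* Multiplicative (Fin 2 → F)))
    (π : Fin r → (↥(⨆ i, E i) →* Matrix.SpecialLinearGroup (Fin 2) F)) : Prop where
  θsurj : ∀ i, Function.Surjective (θ i)
  θker : ∀ i v, θ i v = 1 ↔ (v : G) ∈ centralizer (E i : Set G)
  act : ∀ i (x : ↥(⨆ i, E i)) (v w : ↥(vee p G)), (w : G) = (x : G) * (v : G) * (x : G)⁻¹ →
    Multiplicative.toAdd (θ i w) =
      ((π i x : Matrix.SpecialLinearGroup (Fin 2) F) : Matrix (Fin 2) (Fin 2) F) *ᵥ Multiplicative.toAdd (θ i v)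
  πone : ∀ i j, j ≠ i → ∀ x : ↥(⨆ i, E i), (x : G) ∈ E j → π i x = 1
  πcee : ∀ i (x : ↥(⨆ i, E i)), (x : G) ∈ cee p G → π i x = 1
  πsurj : ∀ i s, ∃ x : ↥(⨆ i, E i), (x : G) ∈ E i ∧ π i x = s
  θpart : ∀ i j, j ≠ i → ∀ v : ↥(vee p G), (v : G) ∈ ⁅vee p G, E j⁆ → θ i v = 1
  θjoint : ∀ f : Fin r → Multiplicative (Fin 2 → F), ∃ v, ∀ i, θ i v = f i
  πjoint : ∀ f : Fin r → Matrix.SpecialLinearGroup (Fin 2) F, ∃ x, ∀ i, π i x = f i

theorem exists_coords (h : LinCase T E F n) : ∃ θ π, Coords T E F θ π := by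
  classical
  haveI := vee_normal (G := G) (p := p)
  haveI := cee_normal (G := G) (p := p)
  have hC := h.toComps
  choose ρ ψ hr using h.rep
  have hpart := fun i (v : ↥(vee p G)) => exists_part hC i v.2
  choose u hu hcent using hpart
  have hψ : ∀ i (a b : ↥⁅vee p G, E i⁆), (a : G)⁻¹ * b ∈ centralizer (E i : Set G) → ψ i a = ψ i b := by
    intro i a b hab
    have := ((hr i).kerψ (a⁻¹ * b)).2 hab
    rw [map_mul, map_inv, inv_mul_eq_one] at this
    exact this
  have key : ∀ i (v : ↥(vee p G)) (a : ↥⁅vee p G, E i⁆), (a : G)⁻¹ * v ∈ centralizer (E i : Set G) →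
      ψ i ⟨u i v, hu i v⟩ = ψ i a := by
    intro i v a ha
    refine hψ i _ _ ?_
    have e : (u i v)⁻¹ * (a : G) = ((u i v)⁻¹ * v) * ((a : G)⁻¹ * v)⁻¹ := by group
    rw [show ((⟨u i v, hu i v⟩ : ↥⁅vee p G, E i⁆) : G) = u i v from rfl, e]
    exact mul_mem (hcent i v) (inv_mem ha)
  let θ : Fin r → (↥(vee p G) →* Multiplicative (Fin 2 → F)) := fun i => MonoidHom.mk'
    (fun v => ψ i ⟨u i v, hu i v⟩) fun v w => by
      rw [← map_mul]
      refine key i _ _ ?_
      have h1 : (u i w)⁻¹ * ((u i v)⁻¹ * (v : G)) = (u i v)⁻¹ * v * (u i w)⁻¹ :=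
        vee_comm (inv_mem (comm_le_vee i (hu i w))) (mul_mem (inv_mem (comm_le_vee i (hu i v))) v.2)
      have e : (u i v * u i w)⁻¹ * ((v : G) * w) = ((u i v)⁻¹ * v) * ((u i w)⁻¹ * w) := by
        calc _ = ((u i w)⁻¹ * ((u i v)⁻¹ * (v : G))) * w := by group
          _ = _ := by rw [h1]; group
      show (u i v * u i w)⁻¹ * ((v : G) * w) ∈ _
      rw [e]
      exact mul_mem (hcent i v) (hcent i w)
  have θsurj : ∀ i, Function.Surjective (θ i) := fun i f => by
    obtain ⟨a, rfl⟩ := (hr i).onto f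
    exact ⟨⟨a, comm_le_vee i a.2⟩, key i _ a (by simp)⟩
  have θker : ∀ i v, θ i v = 1 ↔ (v : G) ∈ centralizer (E i : Set G) := by
    intro i v
    constructor
    · intro e
      have h1 := ((hr i).kerψ _).1 e
      have := mul_mem h1 (hcent i v)
      simpa using this
    · intro hv
      show ψ i _ = 1
      rw [key i v 1 (by simpa using hv), map_one]
  have θpart : ∀ i j, j ≠ i → ∀ v : ↥(vee p G), (v : G) ∈ ⁅vee p G, E j⁆ → θ i v = 1 :=
    fun i j hji v hv => (θker i v).2 (cross_cent hC hji hv)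
  have hex : ∀ i (x : ↥(⨆ i, E i)), ∃ s : Matrix.SpecialLinearGroup (Fin 2) F, ∀ v w : ↥(vee p G),
      (w : G) = (x : G) * (v : G) * (x : G)⁻¹ → Multiplicative.toAdd (θ i w) =
        (s : Matrix (Fin 2) (Fin 2) F) *ᵥ Multiplicative.toAdd (θ i v) := by
    intro i ⟨x, hx⟩
    show ∃ s : Matrix.SpecialLinearGroup (Fin 2) F, ∀ v w : ↥(vee p G),
      (w : G) = x * (v : G) * x⁻¹ → Multiplicative.toAdd (θ i w) =
        (s : Matrix (Fin 2) (Fin 2) F) *ᵥ Multiplicative.toAdd (θ i v)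
    rw [iSup_eq_closure] at hx
    induction hx using closure_induction with
    | mem x hx =>
      obtain ⟨j, hj⟩ := Set.mem_iUnion.1 hx
      by_cases hji : j = i
      · subst hji
        refine ⟨ρ j ⟨x, hj⟩, fun v w hw => ?_⟩
        have hb : x * u j v * x⁻¹ ∈ ⁅vee p G, E j⁆ := by
          have hn : E j ≤ normalizer ((⁅vee p G, E j⁆ : Subgroup G) : Set G) := normalizer_commutator_ge_right _ _
          exact (mem_normalizer_iff.1 (hn hj) _).1 (hu j v)
        have hk : θ j w = ψ j ⟨_, hb⟩ := key j w ⟨_, hb⟩ (by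
          show (x * u j v * x⁻¹)⁻¹ * (w : G) ∈ _
          rw [hw, show (x * u j v * x⁻¹)⁻¹ * (x * (v : G) * x⁻¹) = x * ((u j v)⁻¹ * v) * x⁻¹ by group]
          rw [mem_centralizer_iff.1 (hcent j v) x hj, mul_inv_cancel_right]
          exact hcent j v)
        rw [hk]
        exact (hr j).act ⟨x, hj⟩ ⟨u j v, hu j v⟩ ⟨_, hb⟩ rfl
      · refine ⟨1, fun v w hw => ?_⟩
        have hk : θ i w = θ i v := key i w ⟨u i v, hu i v⟩ (by
          have hc1 : x * u i v * x⁻¹ = u i v := by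
            rw [mem_centralizer_iff.1 (cross_cent hC (Ne.symm hji) (hu i v)) x hj, mul_inv_cancel_right]
          show (u i v)⁻¹ * (w : G) ∈ _
          rw [hw, show (u i v)⁻¹ * (x * (v : G) * x⁻¹) = (x * u i v * x⁻¹)⁻¹ * (x * (v : G) * x⁻¹) by rw [hc1],
            show (x * u i v * x⁻¹)⁻¹ * (x * (v : G) * x⁻¹) = x * ((u i v)⁻¹ * v) * x⁻¹ by group]
          have hxn : x ∈ normalizer (E i : Set G) := comp_normalized hC i (mem_iSup_of_mem j hj)
          refine mem_centralizer_iff.2 fun e he => ?_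
          have h2 := mem_centralizer_iff.1 (hcent i v) _ ((mem_normalizer_iff''.1 hxn e).1 he)
          calc e * (x * ((u i v)⁻¹ * v) * x⁻¹) = x * ((x⁻¹ * e * x) * ((u i v)⁻¹ * v)) * x⁻¹ := by group
            _ = x * (((u i v)⁻¹ * v) * (x⁻¹ * e * x)) * x⁻¹ := by rw [h2]
            _ = _ := by group)
        rw [hk]; simp
    | one => exact ⟨1, fun v w hw => by
        obtain rfl : w = v := Subtype.ext (by simpa using hw)
        simp⟩
    | mul a b _ _ ha hb =>
      obtain ⟨s, hs⟩ := ha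
      obtain ⟨t, ht⟩ := hb
      refine ⟨s * t, fun v w hw => ?_⟩
      rw [hs ⟨b * v * b⁻¹, Normal.conj_mem inferInstance _ v.2 b⟩ w (by rw [hw]; group),
        ht v _ rfl, mulVec_mulVec, Matrix.SpecialLinearGroup.coe_mul]
    | inv a _ ha =>
      obtain ⟨s, hs⟩ := ha
      refine ⟨s⁻¹, fun v w hw => ?_⟩
      have := hs w v (by rw [hw]; group)
      rw [this, mulVec_mulVec, ← Matrix.SpecialLinearGroup.coe_mul, inv_mul_cancel,
        Matrix.SpecialLinearGroup.coe_one, one_mulVec]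
  choose s hs using hex
  have huniq : ∀ i (a b : Matrix.SpecialLinearGroup (Fin 2) F),
      (∀ v, (a : Matrix (Fin 2) (Fin 2) F) *ᵥ Multiplicative.toAdd (θ i v) =
        (b : Matrix (Fin 2) (Fin 2) F) *ᵥ Multiplicative.toAdd (θ i v)) → a = b := by
    intro i a b hab
    refine Subtype.ext (Matrix.ext_of_mulVec_single fun j => ?_)
    obtain ⟨v, hv⟩ := θsurj i (Multiplicative.ofAdd (Pi.single j 1))
    simpa [hv] using hab v
  let π : Fin r → (↥(⨆ i, E i) →* Matrix.SpecialLinearGroup (Fin 2) F) := fun i => MonoidHom.mk' (s i)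
    fun x y => huniq i _ _ fun v => by
      let v' : ↥(vee p G) := ⟨(y : G) * v * (y : G)⁻¹, Normal.conj_mem inferInstance _ v.2 _⟩
      let w : ↥(vee p G) := ⟨(x : G) * v' * (x : G)⁻¹, Normal.conj_mem inferInstance _ v'.2 _⟩
      rw [← hs i (x * y) v w (by simp [w, v', mul_assoc]), hs i x v' w rfl, hs i y v v' rfl,
        mulVec_mulVec, Matrix.SpecialLinearGroup.coe_mul]
  have hπ : ∀ i x, π i x = s i x := fun _ _ => rfl
  have πρ : ∀ i (e : ↥(E i)), π i ⟨e, mem_iSup_of_mem i e.2⟩ = ρ i e := by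
    intro i e
    refine huniq i _ _ fun v => ?_
    obtain ⟨a, ha⟩ := (hr i).onto (θ i v)
    let v' : ↥(vee p G) := ⟨a, comm_le_vee i a.2⟩
    have hv' : θ i v' = θ i v := (key i v' a (by simp [v'])).trans ha
    have hb : (e : G) * a * (e : G)⁻¹ ∈ ⁅vee p G, E i⁆ := by
      have hn : E i ≤ normalizer ((⁅vee p G, E i⁆ : Subgroup G) : Set G) := normalizer_commutator_ge_right _ _
      exact (mem_normalizer_iff.1 (hn e.2) _).1 a.2
    let w : ↥(vee p G) := ⟨_, comm_le_vee i hb⟩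
    rw [← hv', hπ, ← hs i ⟨e, mem_iSup_of_mem i e.2⟩ v' w rfl]
    have hw : θ i w = ψ i ⟨_, hb⟩ := key i w ⟨_, hb⟩ (by
      show ((e : G) * a * (e : G)⁻¹)⁻¹ * _ ∈ _
      rw [inv_mul_cancel]; exact one_mem _)
    have hv2 : θ i v' = ψ i a := key i v' a (by simp [v'])
    rw [hw, hv2]
    exact (hr i).act e a ⟨_, hb⟩ rfl
  have hone : ∀ i (x : ↥(⨆ i, E i)),
      (∀ v : ↥(vee p G), θ i ⟨_, Normal.conj_mem inferInstance _ v.2 (x : G)⟩ = θ i v) → π i x = 1 := by
    intro i x hx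
    refine huniq i _ _ fun v => ?_
    rw [hπ, ← hs i x v ⟨_, Normal.conj_mem inferInstance _ v.2 (x : G)⟩ rfl, hx v]
    simp
  have πcee : ∀ i (x : ↥(⨆ i, E i)), (x : G) ∈ cee p G → π i x = 1 := fun i x hx => hone i x fun v => by
    congr 1
    exact Subtype.ext (by
      show (x : G) * v * (x : G)⁻¹ = v
      rw [← mem_centralizer_iff.1 hx v v.2, mul_inv_cancel_right])
  have πone : ∀ i j, j ≠ i → ∀ x : ↥(⨆ i, E i), (x : G) ∈ E j → π i x = 1 := by
    intro i j hji x hx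
    refine hone i x fun v => key i _ ⟨u i v, hu i v⟩ ?_
    show (u i v)⁻¹ * ((x : G) * v * (x : G)⁻¹) ∈ _
    have hc1 : (x : G) * u i v * (x : G)⁻¹ = u i v := by
      rw [mem_centralizer_iff.1 (cross_cent hC (Ne.symm hji) (hu i v)) x hx, mul_inv_cancel_right]
    rw [show (u i v)⁻¹ * ((x : G) * v * (x : G)⁻¹) =
      ((x : G) * u i v * (x : G)⁻¹)⁻¹ * ((x : G) * v * (x : G)⁻¹) by rw [hc1],
      show ((x : G) * u i v * (x : G)⁻¹)⁻¹ * ((x : G) * v * (x : G)⁻¹) =
        (x : G) * ((u i v)⁻¹ * v) * (x : G)⁻¹ by group]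
    have hxn : (x : G) ∈ normalizer (E i : Set G) := comp_normalized hC i x.2
    refine mem_centralizer_iff.2 fun e he => ?_
    have h2 := mem_centralizer_iff.1 (hcent i v) _ ((mem_normalizer_iff''.1 hxn e).1 he)
    calc e * ((x : G) * ((u i v)⁻¹ * v) * (x : G)⁻¹) =
        (x : G) * (((x : G)⁻¹ * e * x) * ((u i v)⁻¹ * v)) * (x : G)⁻¹ := by group
      _ = (x : G) * (((u i v)⁻¹ * v) * ((x : G)⁻¹ * e * x)) * (x : G)⁻¹ := by rw [h2]
      _ = _ := by group
  have πsurj : ∀ i t, ∃ x : ↥(⨆ i, E i), (x : G) ∈ E i ∧ π i x = t := fun i t => by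
    obtain ⟨e, rfl⟩ := (hr i).surj t
    exact ⟨_, e.2, πρ i e⟩
  refine ⟨θ, π, θsurj, θker, fun i x v w hw => (hπ i x).symm ▸ hs i x v w hw, πone, πcee, πsurj, θpart, fun f => ?_, fun f => ?_⟩
  · have hmem : f ∈ (Pi.monoidHom θ).range := pi_mem_of_mulSingle_mem f fun i => by
      obtain ⟨a, ha⟩ := (hr i).onto (f i)
      refine ⟨⟨a, comm_le_vee i a.2⟩, funext fun j => ?_⟩
      by_cases hji : j = i
      · subst hji
        rw [Pi.mulSingle_eq_same]
        exact (key j _ a (by simp)).trans ha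
      · rw [Pi.mulSingle_eq_of_ne hji]
        exact θpart j i (Ne.symm hji) _ a.2
    obtain ⟨v, hv⟩ := hmem
    exact ⟨v, fun i => congrFun hv i⟩
  · have hmem : f ∈ (Pi.monoidHom π).range := pi_mem_of_mulSingle_mem f fun i => by
      obtain ⟨x, hx, hxf⟩ := πsurj i (f i)
      refine ⟨x, funext fun j => ?_⟩
      by_cases hji : j = i
      · subst hji
        rw [Pi.mulSingle_eq_same]
        exact hxf
      · rw [Pi.mulSingle_eq_of_ne hji]
        exact πone j i (Ne.symm hji) x hx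
    obtain ⟨v, hv⟩ := hmem
    exact ⟨v, fun i => congrFun hv i⟩

end Cfsg.Agent.H85.Push
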