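import Cfsg.Agent.H34.Push.Basic
import Cfsg.Agent.H34.Push.Core
import Cfsg.Agent.H85.Push.LinRep
import Mathlib

/-!
The symmetric case: a rank one subgroup above the Baumann subgroup, with quotient the symmetric group
on a pair of the pairing and the fixed point.
-/

set_option autoImplicit false
set_option linter.style.haveILetI false
set_option linter.unusedSectionVars false

open scoped commutatorElement

namespace Cfsg.Agent.H85.Push

open Subgroup
open Cfsg.Agent.H34.Push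

universe u

/-- The vectors other than zero. -/
abbrev NonzeroPair : Type := {v : Fin 2 → ZMod 2 // v ≠ 0}

theorem inv_mulVec_cancel (s : Matrix.SpecialLinearGroup (Fin 2) (ZMod 2)) (v : Fin 2 → ZMod 2) :
    Matrix.mulVec ((s⁻¹ : Matrix.SpecialLinearGroup (Fin 2) (ZMod 2)) : Matrix (Fin 2) (Fin 2) (ZMod 2))
      (Matrix.mulVec (s : Matrix (Fin 2) (Fin 2) (ZMod 2)) v) = v := by
  rw [Matrix.mulVec_mulVec, ← Matrix.SpecialLinearGroup.coe_mul, inv_mul_cancel,
    Matrix.SpecialLinearGroup.coe_one, Matrix.one_mulVec]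

/-- `SL₂(2)` on the vectors other than zero. -/
def pairMove (s : Matrix.SpecialLinearGroup (Fin 2) (ZMod 2)) (v : NonzeroPair) : NonzeroPair :=
  ⟨Matrix.mulVec (s : Matrix (Fin 2) (Fin 2) (ZMod 2)) v.1, fun e => v.2 (by
    rw [← inv_mulVec_cancel s v.1, e, Matrix.mulVec_zero])⟩

theorem pairMove_mul (s t : Matrix.SpecialLinearGroup (Fin 2) (ZMod 2)) (v : NonzeroPair) :
    pairMove (s * t) v = pairMove s (pairMove t v) :=
  Subtype.ext (by simp only [pairMove, Matrix.SpecialLinearGroup.coe_mul, Matrix.mulVec_mulVec])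

theorem pairMove_one (v : NonzeroPair) : pairMove 1 v = v :=
  Subtype.ext (by simp only [pairMove, Matrix.SpecialLinearGroup.coe_one, Matrix.one_mulVec])

/-- The action as a homomorphism. -/
def pairAct : Matrix.SpecialLinearGroup (Fin 2) (ZMod 2) →* Equiv.Perm NonzeroPair where
  toFun s :=
    { toFun := pairMove s
      invFun := pairMove s⁻¹
      left_inv := fun v => by rw [← pairMove_mul, inv_mul_cancel, pairMove_one]
      right_inv := fun v => by rw [← pairMove_mul, mul_inv_cancel, pairMove_one] }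
  map_one' := Equiv.ext fun v => pairMove_one v
  map_mul' s t := Equiv.ext fun v => pairMove_mul s t v

theorem perm_card_three_equiv {Ω : Type*} [Fintype Ω] [DecidableEq Ω] (h : Fintype.card Ω = 3) :
    Nonempty (Equiv.Perm Ω ≃* Matrix.SpecialLinearGroup (Fin 2) (ZMod 2)) := by
  have hV : Fintype.card NonzeroPair = 3 := by decide
  have hinj : Function.Injective pairAct := by
    intro s t e
    refine Subtype.ext (Matrix.ext_of_mulVec_single fun j => ?_)
    have hj : (Pi.single j 1 : Fin 2 → ZMod 2) ≠ 0 := fun e => by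
      have := congrFun e j
      simp at this
    exact congrArg Subtype.val (congrArg (fun g : Equiv.Perm NonzeroPair => g ⟨_, hj⟩) e)
  have hbij : Function.Bijective pairAct := by
    refine (Fintype.bijective_iff_injective_and_card _).2 ⟨hinj, ?_⟩
    rw [Fintype.card_perm, hV]
    decide
  exact ⟨((Fintype.equivOfCardEq (h.trans hV.symm)).permCongrHom).trans (MulEquiv.ofBijective pairAct hbij).symm⟩

/-- The permutations that keep every point outside `A` in its pair. -/
def inPairs {m : ℕ} (σ : Equiv.Perm (Fin m)) (hσ : ∀ x, σ (σ x) = x) (A : Fin m → Prop)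
    (hA : ∀ x, A (σ x) → A x) : Subgroup (Equiv.Perm (Fin m)) where
  carrier := {g | ∀ x, ¬ A x → g x = x ∨ g x = σ x}
  one_mem' := fun x _ => Or.inl rfl
  mul_mem' := by
    intro g k hg hk x hx
    rcases hk x hx with h | h
    · rcases hg x hx with h' | h'
      · exact Or.inl (by rw [Equiv.Perm.mul_apply, h, h'])
      · exact Or.inr (by rw [Equiv.Perm.mul_apply, h, h'])
    · rcases hg (σ x) (fun e => hx (hA x e)) with h' | h'
      · exact Or.inr (by rw [Equiv.Perm.mul_apply, h, h'])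
      · exact Or.inl (by rw [Equiv.Perm.mul_apply, h, h', hσ])
  inv_mem' := by
    intro g hg x hx
    rcases hg x hx with h | h
    · exact Or.inl (Equiv.Perm.inv_eq_iff_eq.2 h.symm)
    · rcases hg (σ x) (fun e => hx (hA x e)) with h' | h'
      · have e : σ x = x := g.injective (h'.trans h.symm)
        exact Or.inl (Equiv.Perm.inv_eq_iff_eq.2 (e ▸ h'.symm))
      · exact Or.inr (Equiv.Perm.inv_eq_iff_eq.2 (by rw [h', hσ]))

theorem inPairs_maps {m : ℕ} {σ : Equiv.Perm (Fin m)} {hσ : ∀ x, σ (σ x) = x} {A : Fin m → Prop}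
    {hA : ∀ x, A (σ x) → A x} {g : Equiv.Perm (Fin m)} (hg : g ∈ inPairs σ hσ A hA) (x : Fin m) :
    A (g x) ↔ A x := by
  have key : ∀ k ∈ inPairs σ hσ A hA, ∀ y, A (k y) → A y := by
    intro k hk y hy
    by_contra h
    rcases hk y h with e | e
    · exact h (e ▸ hy)
    · exact h (hA y (e ▸ hy))
  exact ⟨key g hg x, fun h => key g⁻¹ (inv_mem hg) (g x) (by simpa using h)⟩

variable {G : Type u} [Group G] [Finite G] {p : ℕ} [Fact p.Prime] {T : Sylow p G} {M : Subgroup G}
variable {r : ℕ} {E : Fin r → Subgroup G}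

/-- A map on one component, killing `C`, extends to the product, killing the others. -/
theorem exists_compProj (h : Comps T E) {P : Type*} [Group P] (i : Fin r) (ρ : ↥(E i) →* P)
    (hker : ∀ e : ↥(E i), (e : G) ∈ cee p G → ρ e = 1) :
    ∃ π : ↥(⨆ j, E j) →* P, (∀ (x : ↥(⨆ j, E j)) (hx : (x : G) ∈ E i), π x = ρ ⟨x, hx⟩) ∧
      (∀ x : ↥(⨆ j, E j), (x : G) ∈ cee p G → π x = 1) ∧
      ∀ j, j ≠ i → ∀ x : ↥(⨆ j, E j), (x : G) ∈ E j → π x = 1 := by
  classical
  haveI := cee_normal (G := G) (p := p)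
  set D := ⨆ j ∈ {j | j ≠ i}, E j with hDdef
  set N := D ⊔ cee p G with hNdef
  have hnorm : E i ≤ normalizer (N : Set G) := fun e he => by
    refine H74.mem_normalizer_of_conj_mem fun x hx => ?_
    have hle : N.map (MulAut.conj e).toMonoidHom ≤ N := by
      rw [hNdef, Subgroup.map_sup, hDdef, Subgroup.map_iSup]
      refine sup_le (iSup_le fun j => ?_) ?_
      · rw [Subgroup.map_iSup]
        refine iSup_le fun hj => ?_
        rintro _ ⟨d, hd, rfl⟩
        show e * d * e⁻¹ ∈ _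
        rw [show e * d * e⁻¹ = ⁅e, d⁆ * d by simp [commutatorElement_def, mul_assoc]]
        exact mul_mem (mem_sup_right (h.comm i j (Ne.symm hj) (commutator_mem_commutator he hd)))
          (mem_sup_left ((le_iSup₂ (f := fun j (_ : j ∈ {j | j ≠ i}) => E j) j hj) hd))
      · rintro _ ⟨c, hc, rfl⟩
        exact mem_sup_right (Normal.conj_mem inferInstance c hc e)
    exact hle ⟨x, hx, rfl⟩
  have hinf : E i ⊓ N ≤ cee p G := by
    rintro z ⟨hzE, hzN⟩
    obtain ⟨d, hd, c, hc, rfl⟩ := mem_sup_of_normal_right.1 hzN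
    refine mul_mem (h.direct i ⟨?_, hd⟩) hc
    have := (E i).mul_mem hzE ((E i).inv_mem (h.cent_le i hc))
    rwa [mul_inv_cancel_right] at this
  have hsplit : ∀ x : ↥(⨆ j, E j), ∃ e : ↥(E i), (e : G)⁻¹ * x ∈ N := by
    intro x
    have hx : (x : G) ∈ E i ⊔ N := by
      suffices hle : (⨆ j, E j) ≤ E i ⊔ N from hle x.2
      refine iSup_le fun j => ?_
      by_cases hj : j = i
      · exact hj ▸ le_sup_left
      · exact le_sup_of_le_right (le_sup_of_le_left (le_iSup₂ (f := fun j (_ : j ∈ {j | j ≠ i}) => E j) j hj))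
    rw [← SetLike.mem_coe, coe_mul_of_left_le_normalizer_right _ _ hnorm] at hx
    obtain ⟨e, he, d, hd, hed⟩ := hx
    refine ⟨⟨e, he⟩, ?_⟩
    show e⁻¹ * (x : G) ∈ N
    rw [← show e * d = (x : G) from hed, inv_mul_cancel_left]
    exact hd
  choose pr hpr using hsplit
  have huniq : ∀ (x : ↥(⨆ j, E j)) (e : ↥(E i)), (e : G)⁻¹ * x ∈ N → ρ (pr x) = ρ e := by
    intro x e he
    refine inv_mul_eq_one.1 ?_
    rw [← map_inv, ← map_mul]
    refine hker _ (hinf ⟨((pr x)⁻¹ * e).2, ?_⟩)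
    have := mul_mem (hpr x) (inv_mem he)
    simpa [mul_assoc] using this
  refine ⟨MonoidHom.mk' (fun x => ρ (pr x)) fun x y => ?_, fun x hx => huniq x ⟨x, hx⟩ ?_,
    fun x hx => (huniq x 1 ?_).trans (map_one ρ), fun j hj x hx => (huniq x 1 ?_).trans (map_one ρ)⟩
  · rw [← map_mul]
    refine huniq _ _ ?_
    have h1 := (mem_normalizer_iff.1 (hnorm (inv_mem (pr y).2)) _).1 (hpr x)
    have := mul_mem h1 (hpr y)
    simpa [mul_assoc] using this
  · simp
  · simpa using (mem_sup_right hx : (x : G) ∈ N)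
  · simpa using (mem_sup_left ((le_iSup₂ (f := fun j (_ : j ∈ {j | j ≠ i}) => E j) j hj) hx) : (x : G) ∈ N)

variable {n : ℕ}

theorem cee_le_iSup (h : Comps T E) : cee p G ≤ ⨆ j, E j :=
  (h.cent_le ⟨0, h.pos⟩).trans (le_iSup E _)

set_option maxHeartbeats 1000000 in
/-- A rank one subgroup over the field of two elements. -/
theorem exists_rankSub_sym (hc : Ctx T M) (h : SymCase T E n) (si : SymImages T E n) (co : Core T E) :
    ∃ R : Subgroup G, RankSub T (ZMod 2) 1 R := by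
  classical
  obtain rfl := h.two
  have hC := h.toComps
  haveI := cee_normal (G := G) (p := 2)
  haveI hell : (ell 2 (T : Subgroup G)).Normal := normalClosure_normal
  haveI hpee : (pee 2 (T : Subgroup G)).Normal := pee_normal
  let i : Fin r := ⟨0, hC.pos⟩
  obtain ⟨ρ, ψ, hr⟩ := h.rep i
  obtain ⟨σ, f, sl⟩ := si.leaves i ρ ψ hr
  obtain ⟨π, hπE, hπC, hπO⟩ := exists_compProj hC i ρ fun e he => (hr.ker e).2 he
  obtain ⟨a, ha⟩ : ∃ a : Fin (2 ^ n + 1), a ≠ f := by
    haveI : Nontrivial (Fin (2 ^ n + 1)) :=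
      Fin.nontrivial_iff_two_le.2 (Nat.succ_le_succ (Nat.one_le_two_pow))
    exact exists_ne f
  have hσa : σ a ≠ a := fun e => ha ((sl.fixed a).1 e)
  have hσf : σ a ≠ f := fun e => ha (by
    have := congrArg σ e
    rwa [sl.invol, (sl.fixed f).2 rfl] at this)
  let A : Fin (2 ^ n + 1) → Prop := fun x => x = a ∨ x = σ a ∨ x = f
  have hA : ∀ x, A (σ x) → A x := by
    rintro x (e | e | e)
    · exact Or.inr (Or.inl (by rw [← e, sl.invol]))
    · exact Or.inl (σ.injective e)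
    · exact Or.inr (Or.inr (by rw [← sl.invol x, e, (sl.fixed f).2 rfl]))
  let P := inPairs σ sl.invol (fun _ => False) fun _ => id
  let H := inPairs σ sl.invol A hA
  set B := Cfsg.baumannSubgroupOf 2 (T : Subgroup G) with hBdef
  set L := ell 2 (T : Subgroup G) with hLdef
  set BC := B ⊔ cee 2 G with hBCdef
  set X := (H.comap ρ).map (E i).subtype with hXdef
  set Y := X ⊔ BC with hYdef
  have hBL : B ≤ L := le_normalClosure
  have hXE : X ≤ E i := map_subtype_le _
  have hBCE : BC ≤ ⨆ j, E j := sup_le co.B_le (cee_le_iSup hC)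
  have hYE : Y ≤ ⨆ j, E j := sup_le (hXE.trans (le_iSup E i)) hBCE
  -- `B C` keeps every pair
  have hπP : ∀ x : ↥(⨆ j, E j), (x : G) ∈ BC → π x ∈ P := by
    have hle : BC ≤ (P.comap π).map (⨆ j, E j).subtype := by
      rw [hBCdef, ← si.split]
      refine iSup_le fun j => ?_
      rintro x ⟨hx, hxj⟩
      refine ⟨⟨x, mem_iSup_of_mem j hxj⟩, ?_, rfl⟩
      show π _ ∈ P
      by_cases hji : j = i
      · subst hji
        rw [hπE _ hxj]
        exact fun y _ => (sl.image ⟨x, hxj⟩).1 hx y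
      · rw [hπO j hji _ hxj]
        exact one_mem _
    intro x hx
    obtain ⟨y, hy, hyx⟩ := hle hx
    rwa [show x = y from Subtype.ext hyx.symm]
  have hPH : P ≤ H := fun g hg x _ => hg x id
  have hXn : BC ≤ normalizer (X : Set G) := by
    rw [hBCdef, ← si.split]
    refine iSup_le fun j => ?_
    rintro b ⟨hb, hbj⟩
    by_cases hji : j = i
    · subst hji
      exact le_normalizer ⟨⟨b, hbj⟩, hPH fun y _ => (sl.image ⟨b, hbj⟩).1 hb y, rfl⟩
    · refine H74.mem_normalizer_of_conj_mem fun x hx => ?_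
      rw [show b * x * b⁻¹ = ⁅b, x⁆ * x by simp [commutatorElement_def, mul_assoc]]
      have hc' : ⁅b, x⁆ ∈ cee 2 G := hC.comm j i hji (commutator_mem_commutator hbj (hXE hx))
      refine mul_mem ⟨⟨_, hC.cent_le i hc'⟩, ?_, rfl⟩ hx
      show ρ _ ∈ H
      rw [(hr.ker ⟨_, hC.cent_le i hc'⟩).2 hc']
      exact one_mem _
  have hπH : ∀ x : ↥(⨆ j, E j), (x : G) ∈ Y → π x ∈ H := by
    have hle : Y ≤ (H.comap π).map (⨆ j, E j).subtype := by
      refine sup_le ?_ fun x hx => ⟨⟨x, hBCE hx⟩, hPH (hπP _ hx), rfl⟩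
      rintro _ ⟨e, he, rfl⟩
      refine ⟨⟨e, mem_iSup_of_mem i e.2⟩, ?_, rfl⟩
      show π _ ∈ H
      rw [hπE _ e.2]
      exact he
    intro x hx
    obtain ⟨y, hy, hyx⟩ := hle hx
    rwa [show x = y from Subtype.ext hyx.symm]
  have hfixA : ∀ x : ↥(⨆ j, E j), (x : G) ∈ Y → (∀ z, A z → π x z = z) → (x : G) ∈ BC := by
    intro x hx hfix
    have hx' := hx
    rw [hYdef, ← SetLike.mem_coe, coe_mul_of_right_le_normalizer_left _ _ hXn] at hx'
    obtain ⟨_, ⟨e, he, rfl⟩, b, hb, heb⟩ := hx'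
    have hxP : π x ∈ P := fun z _ => by
      by_cases hz : A z
      · exact Or.inl (hfix z hz)
      · exact hπH x hx z hz
    have e1 : x = ⟨e, mem_iSup_of_mem i e.2⟩ * ⟨b, hBCE hb⟩ := Subtype.ext heb.symm
    rw [e1, map_mul, hπE _ e.2] at hxP
    have he' : ρ e ∈ P := (Subgroup.mul_mem_cancel_right P (hπP _ hb)).1 hxP
    rw [show (x : G) = (e : G) * b from heb.symm]
    exact mul_mem ((sl.image e).2 fun z => he' z id) hb
  -- a minimal supplement
  let s : Set (Subgroup G) := {R | B ≤ R ∧ R ≤ L ∧ R ⊔ cee 2 G = Y}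
  have hs : s.Nonempty := by
    refine ⟨L ⊓ Y, le_inf hBL (le_sup_of_le_right le_sup_left), inf_le_left,
      le_antisymm (sup_le inf_le_right (le_sup_of_le_right le_sup_right)) fun y hy => ?_⟩
    obtain ⟨l, hl, c, hc', rfl⟩ := mem_sup_of_normal_right.1 (co.L_sup.ge (hYE hy))
    refine mul_mem (mem_sup_left ⟨hl, ?_⟩) (mem_sup_right hc')
    have hcY : c ∈ Y := mem_sup_right (mem_sup_right hc')
    have := Y.mul_mem hy (Y.inv_mem hcY)
    rwa [mul_inv_cancel_right] at this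
  obtain ⟨R, ⟨hBR, hRL, hRY⟩, hmin⟩ := (wellFounded_lt (α := Subgroup G)).has_min s hs
  have hRYle : R ≤ Y := hRY ▸ le_sup_left
  have hRE : R ≤ ⨆ j, E j := hRYle.trans hYE
  let φ : ↥R →* Equiv.Perm {x // A x} := MonoidHom.mk'
    (fun x => (π (inclusion hRE x)).subtypePerm (inPairs_maps (hπH _ (hRYle x.2))))
    fun x y => Equiv.ext fun z => Subtype.ext (by simp only [map_mul]; rfl)
  have hφa : ∀ (x : ↥R) (z : {x // A x}), ((φ x z : {x // A x}) : Fin (2 ^ n + 1)) = π (inclusion hRE x) z :=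
    fun x z => rfl
  have hφBC : ∀ x : ↥R, φ x = 1 → (x : G) ∈ BC := fun x hx =>
    hfixA (inclusion hRE x) (hRYle x.2) fun z hz => by
      have := hφa x ⟨z, hz⟩
      rw [hx] at this
      exact this.symm
  have hφ : Function.Surjective φ := by
    intro g
    obtain ⟨e, he⟩ := hr.surj (Equiv.Perm.ofSubtype g)
    have heX : (e : G) ∈ X := ⟨e, show ρ e ∈ H by
      rw [he]
      exact fun z hz => Or.inl (Equiv.Perm.ofSubtype_apply_of_not_mem g hz), rfl⟩
    obtain ⟨x, hx, c, hc', exc⟩ := mem_sup_of_normal_right.1 (hRY.ge (mem_sup_left heX))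
    refine ⟨⟨x, hx⟩, Equiv.ext fun z => Subtype.ext ?_⟩
    have e' : (⟨e, mem_iSup_of_mem i e.2⟩ : ↥(⨆ j, E j)) = ⟨x, hRE hx⟩ * ⟨c, cee_le_iSup hC hc'⟩ :=
      Subtype.ext exc.symm
    have h1 := congrArg π e'
    rw [map_mul, hπC ⟨c, _⟩ hc', mul_one, hπE _ e.2, show (⟨(e : G), e.2⟩ : ↥(E i)) = e from rfl, he] at h1
    rw [hφa, show inclusion hRE ⟨x, hx⟩ = ⟨x, hRE hx⟩ from rfl, ← h1, Equiv.Perm.ofSubtype_apply_coe]
  set S₀ := B.subgroupOf R with hS₀
  obtain ⟨y, hy, hyy, hyρ⟩ := sl.lift a ha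
  let τ : ↥R := ⟨y, hBR hy⟩
  let fA : {x // A x} := ⟨f, Or.inr (Or.inr rfl)⟩
  let aA : {x // A x} := ⟨a, Or.inl rfl⟩
  have hπy : π (inclusion hRE τ) = Equiv.swap a (σ a) := by
    rw [hπE _ y.2]; exact hyρ
  have hτf : φ τ fA = fA := Subtype.ext (by
    rw [hφa, hπy]; exact Equiv.swap_apply_of_ne_of_ne ha.symm hσf.symm)
  have hτ1 : φ τ ≠ 1 := fun e => hσa (by
    have := hφa τ aA
    rw [e, hπy] at this
    exact ((Equiv.swap_apply_left a (σ a)).symm.trans this.symm))
  have hτ2 : orderOf (φ τ) = 2 := orderOf_eq_prime (by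
    rw [sq, ← map_mul, show τ * τ = 1 from Subtype.ext (show (y : G) * (y : G) = 1 from congrArg Subtype.val hyy), map_one]) hτ1
  have hcard : Fintype.card {x // A x} = 3 := by
    rw [Fintype.card_subtype, show (Finset.univ.filter A : Finset (Fin (2 ^ n + 1))) = {a, σ a, f} by
      ext x; simp [A]]
    rw [Finset.card_eq_three]
    exact ⟨a, σ a, f, hσa.symm, ha, hσf, rfl⟩
  have hcard6 : Nat.card (Equiv.Perm {x // A x}) = 6 := by
    rw [Nat.card_eq_fintype_card, Fintype.card_perm, hcard]; rfl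
  have hzf : ∀ g ∈ zpowers (φ τ), g fA = fA := fun g hg => by
    have : zpowers (φ τ) ≤ MulAction.stabilizer (Equiv.Perm {x // A x}) fA := zpowers_le.2 hτf
    exact this hg
  set MR := BC.subgroupOf R with hMR
  have hproper : ∀ Z : Subgroup ↥R, S₀ ≤ Z → Z.map φ ≠ ⊤ → Z ≤ MR := by
    intro Z hSZ hne z hz
    have hle : zpowers (φ τ) ≤ Z.map φ := zpowers_le.2 ⟨τ, hSZ hy, rfl⟩
    have hd : Nat.card ↥(Z.map φ) ∣ 6 := hcard6 ▸ card_subgroup_dvd_card _
    have h2 : 2 ∣ Nat.card ↥(Z.map φ) := by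
      have := card_dvd_of_le hle
      rwa [Nat.card_zpowers, hτ2] at this
    have h6 : Nat.card ↥(Z.map φ) ≠ 6 := fun e => hne (eq_top_of_card_eq _ (e.trans hcard6.symm))
    have hc2 : Nat.card ↥(Z.map φ) = 2 := by
      have hlt := Nat.le_of_dvd (by norm_num) hd
      generalize Nat.card ↥(Z.map φ) = c at hd h2 h6 hlt ⊢
      interval_cases c <;> omega
    have heq : zpowers (φ τ) = Z.map φ := eq_of_le_of_card_ge hle (by rw [hc2, Nat.card_zpowers, hτ2])
    obtain ⟨k, hk⟩ := mem_zpowers_iff.1 (heq.ge ⟨z, hz, rfl⟩)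
    show (z : G) ∈ BC
    have h1 := hφBC ((τ ^ k)⁻¹ * z) (by rw [map_mul, map_inv, map_zpow, hk, inv_mul_cancel])
    have h2' : ((τ ^ k : ↥R) : G) ∈ BC := by
      rw [coe_zpow]; exact zpow_mem (mem_sup_left hy) k
    simpa using mul_mem h2' h1
  have hMRne : MR ≠ ⊤ := by
    intro e
    obtain ⟨x, hx⟩ := hφ (Equiv.swap fA aA)
    have h1 := hπP (inclusion hRE x) (show (x : G) ∈ BC from e.ge (mem_top x)) f id
    rw [← hφa x fA, hx, Equiv.swap_apply_left, (sl.fixed f).2 rfl, or_self] at h1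
    exact ha h1
  have hS₀MR : S₀ ≤ MR := fun x hx => mem_sup_left hx
  have hbelow : ∀ Z : Subgroup ↥R, S₀ ≤ Z → Z ≠ ⊤ → Z ≤ MR := by
    intro Z hSZ hZ
    refine hproper Z hSZ fun htop => hZ (top_le_iff.1 fun z _ => ?_)
    have hsup : Z.map R.subtype ⊔ cee 2 G = Y := by
      refine le_antisymm (sup_le ((map_subtype_le Z).trans hRYle) (le_sup_of_le_right le_sup_right))
        fun w hw => ?_
      obtain ⟨x, hx, c, hc', rfl⟩ := mem_sup_of_normal_right.1 (hRY.ge hw)
      refine mul_mem ?_ (mem_sup_right hc')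
      obtain ⟨z', hz', he⟩ := htop.ge (mem_top (φ ⟨x, hx⟩))
      have h1 := hφBC (z'⁻¹ * ⟨x, hx⟩) (by rw [map_mul, map_inv, he, inv_mul_cancel])
      have h2 : BC ≤ Z.map R.subtype ⊔ cee 2 G :=
        sup_le (le_sup_of_le_left fun b hb => ⟨⟨b, hBR hb⟩, hSZ hb, rfl⟩) le_sup_right
      have := mul_mem (mem_sup_left (mem_map_of_mem R.subtype hz') : (z' : G) ∈ Z.map R.subtype ⊔ cee 2 G) (h2 h1)
      simpa using this
    have heq : Z.map R.subtype = R := by
      by_contra hlt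
      exact hmin (Z.map R.subtype) ⟨fun b hb => ⟨⟨b, hBR hb⟩, hSZ hb, rfl⟩, (map_subtype_le Z).trans hRL, hsup⟩
        (lt_of_le_of_ne (map_subtype_le Z) hlt)
    obtain ⟨x, hx, hxz⟩ := heq.ge z.2
    rwa [show z = x from Subtype.ext hxz.symm]
  -- the Sylow subgroup
  have hBp : IsPGroup 2 ↥B := T.2.to_le inf_le_left
  have hS₀p : IsPGroup 2 ↥S₀ := hBp.of_equiv (subgroupOfEquivOfLe hBR).symm
  have hpeeB : pee 2 (T : Subgroup G) ≤ B := co.P_eq ▸ inf_le_right
  let S : Sylow 2 ↥R :=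
    { toSubgroup := S₀
      isPGroup' := hS₀p
      is_maximal' := fun {Q} hQ hle => by
        refine le_antisymm (fun x hx => ?_) hle
        have hne : Q.map φ ≠ ⊤ := by
          intro e
          have h1 : IsPGroup 2 (Equiv.Perm {x // A x}) :=
            (e ▸ hQ.map φ : IsPGroup 2 ↥(⊤ : Subgroup (Equiv.Perm {x // A x}))).of_equiv Subgroup.topEquiv
          obtain ⟨k, hk⟩ := IsPGroup.iff_card.1 h1
          rw [hcard6] at hk
          have : 3 ∣ 2 ^ k := hk ▸ (by norm_num)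
          exact absurd (Nat.prime_three.dvd_of_dvd_pow this) (by norm_num)
        obtain ⟨b, hb, c, hc', exc⟩ := mem_sup_of_normal_right.1 (show (x : G) ∈ B ⊔ cee 2 G from hproper Q hle hne hx)
        have hcQ : c ∈ Q.map R.subtype := by
          have h1 := mul_mem (inv_mem (hle (show (⟨b, hBR hb⟩ : ↥R) ∈ S₀ from hb))) hx
          refine ⟨_, h1, ?_⟩
          show b⁻¹ * (x : G) = c
          rw [← exc, inv_mul_cancel_left]
        obtain ⟨T', hT'⟩ := (hQ.map R.subtype).exists_le_sylow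
        obtain ⟨g, hg⟩ := MulAction.exists_smul_eq G T T'
        have hmap : (T : Subgroup G).map (MulAut.conj g).toMonoidHom = (T' : Subgroup G) := by
          rw [← hg]; rfl
        obtain ⟨t, ht, htc⟩ := hmap.ge (hT' hcQ)
        have htc' : g * t * g⁻¹ = c := htc
        have htcee : t ∈ cee 2 G := by
          have h1 := Normal.conj_mem (inferInstance : (cee 2 G).Normal) _ hc' g⁻¹
          rw [← htc'] at h1
          simpa [mul_assoc] using h1
        have hcO : c ∈ Cfsg.pCore 2 G := by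
          rw [← htc']
          exact (pCore_normal' (G := G) (p := 2)).conj_mem _ (hc.inf_cee.le ⟨ht, htcee⟩) g
        have hcL : c ∈ L := hRL ((map_subtype_le Q) hcQ)
        show (x : G) ∈ B
        rw [← exc]
        exact mul_mem hb (hpeeB (co.L_core.le ⟨hcL, hcO⟩)) }
  have hgen : R ⊔ (T : Subgroup G) = ⊤ := by
    by_contra hgen
    have hle := hc.le_max (le_sup_right : (T : Subgroup G) ≤ R ⊔ T) hgen
    have hXM : X ≤ M := (le_sup_left.trans hRY.ge).trans (sup_le (le_sup_left.trans hle) hc.cee_le)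
    let K := (M.subgroupOf (E i)).map ρ
    have hfb : ∀ b, b ≠ f → Equiv.swap f b ∈ K := by
      intro b hb
      obtain ⟨e₀, he₀⟩ := hr.surj (Equiv.swap f a)
      have h0 : Equiv.swap f a ∈ K := ⟨e₀, hXM ⟨e₀, show ρ e₀ ∈ H by
        rw [he₀]
        exact fun z hz => Or.inl (Equiv.swap_apply_of_ne_of_ne
          (fun e => hz (Or.inr (Or.inr e))) (fun e => hz (Or.inl e))), rfl⟩, he₀⟩
      obtain ⟨t, ht, htab⟩ := sl.trans a b ha hb
      have htK : ρ t ∈ K := ⟨t, hc.hTM ht, rfl⟩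
      have := mul_mem (mul_mem htK h0) (inv_mem htK)
      rwa [← Equiv.swap_apply_apply, sl.sylow t ht, htab] at this
    have htop : K = ⊤ := by
      rw [← top_le_iff, ← Equiv.Perm.closure_isSwap, closure_le]
      rintro _ ⟨x, z, hxz, rfl⟩
      by_cases hx : x = f
      · subst hx; exact hfb z (Ne.symm hxz)
      by_cases hz : z = f
      · subst hz; rw [Equiv.swap_comm]; exact hfb x hx
      have h1 := mul_mem (mul_mem (hfb x hx) (hfb z hz)) (inv_mem (hfb x hx))
      rwa [← Equiv.swap_apply_apply, Equiv.swap_apply_left,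
        Equiv.swap_apply_of_ne_of_ne hz (Ne.symm hxz)] at h1
    have hEi : E i ≤ M := by
      intro e he
      obtain ⟨e', he', hee⟩ := htop.ge (mem_top (ρ ⟨e, he⟩))
      have h1 : ((e'⁻¹ * ⟨e, he⟩ : ↥(E i)) : G) ∈ cee 2 G :=
        (hr.ker _).1 (by rw [map_mul, map_inv, hee, inv_mul_cancel])
      simpa using M.mul_mem he' (hc.cee_le h1)
    refine hc.hM.1 (top_le_iff.1 ?_)
    rw [← hC.top]
    refine sup_le (iSup_le fun j => ?_) hc.hTM
    obtain ⟨t, ht, hte⟩ := hC.trans i j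
    rw [← hte]
    rintro _ ⟨e, he, rfl⟩
    exact M.mul_mem (M.mul_mem (hc.hTM ht) (hEi he)) (M.inv_mem (hc.hTM ht))
  obtain ⟨ι⟩ := perm_card_three_equiv hcard
  refine ⟨R, ⟨hBR, hRL, ⟨S, (((QuotientGroup.mk' (Subgroup.center (Matrix.SpecialLinearGroup (Fin 2) (ZMod 2)))).comp
    ι.toMonoidHom).comp φ).ker, rfl, ?_⟩, ?_, hgen⟩⟩
  · refine ⟨?_, ⟨MR, ⟨⟨hMRne, fun Z hZ => ?_⟩, hS₀MR⟩, fun Z hZ => ?_⟩, (ZMod.card 2).trans (pow_one 2).symm,
      le_rfl, MonoidHom.normal_ker _, ⟨_, ?_, rfl⟩⟩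
    · have hple : (pee 2 (T : Subgroup G)).subgroupOf R ≤ Cfsg.pCore 2 ↥R := H72.le_pCore inferInstance
        ((hBp.to_le hpeeB).of_equiv (subgroupOfEquivOfLe (hpeeB.trans hBR)).symm)
      intro x hx
      refine hple (co.P_cent (mem_centralizer_iff.2 fun z hz => ?_))
      exact congrArg Subtype.val (mem_centralizer_iff.1 hx ⟨z, hBR (hpeeB hz)⟩ (hple hz))
    · by_contra hne
      exact hZ.not_ge (hbelow Z (hS₀MR.trans hZ.le) hne)
    · exact (hZ.1.le_iff.1 (hbelow Z hZ.2 hZ.1.1)).resolve_left (fun e => hMRne (by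
        rw [e])) |>.symm
    · exact ((QuotientGroup.mk'_surjective _).comp ι.surjective).comp hφ
  · intro T' hT' hinv hn
    by_contra hne
    set C' := T'.map R.subtype with hC'
    have hC'B : C' ≤ B := by
      rintro _ ⟨x, hx, rfl⟩; exact hT' hx
    have hC'ne : C' ≠ ⊥ := fun e => hne ((map_eq_bot_iff_of_injective T' R.subtype_injective).1 e)
    have hchar : (C'.subgroupOf B).Characteristic := by
      rw [characteristic_iff_le_comap]
      intro α z hz
      obtain ⟨x, hx, hxy⟩ := hz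
      let e := subgroupOfEquivOfLe hBR
      let α' : ↥S₀ ≃* ↥S₀ := e.trans (α.trans e.symm)
      have hxS : x ∈ S₀ := hT' hx
      refine ⟨(α' ⟨x, hxS⟩ : ↥R), hinv α' ⟨x, hxS⟩ hx, ?_⟩
      have hex : e ⟨x, hxS⟩ = z := Subtype.ext hxy
      show ((e (α' ⟨x, hxS⟩) : ↥B) : G) = (α z : G)
      rw [show e (α' ⟨x, hxS⟩) = α (e ⟨x, hxS⟩) from e.apply_symm_apply _, hex]
    refine hc.hchar C' hC'B hC'ne hchar (normalizer_eq_top_iff.1 (top_le_iff.1 ?_))
    have hTn : (T : Subgroup G) ≤ normalizer (C' : Set G) :=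
      (H51.le_normalizer_baumann _).trans (normalizer_le_of_characteristic hC'B hchar)
    have hRn : R ≤ normalizer (C' : Set G) := by
      intro b hb
      refine H74.mem_normalizer_of_conj_mem ?_
      rintro _ ⟨x, hx, rfl⟩
      exact ⟨⟨b, hb⟩ * x * ⟨b, hb⟩⁻¹, hn.conj_mem x hx _, rfl⟩
    exact hgen.ge.trans (sup_le hRn hTn)

end Cfsg.Agent.H85.Push
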